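import Cfsg.Agent.Lib.TwoClassHalf.Count

/-!
The conclusion of the count, and the case of an abelian Sylow `2`-subgroup.
-/

set_option autoImplicit false
set_option linter.unusedSectionVars false
set_option linter.style.haveILetI false

namespace CfsgLib.TwoClassHalf

open Cfsg Finset

universe u

variable {G : Type u} [Group G] [Finite G]

/-- All fusion in the Sylow subgroup takes place inside the cosets of a four-group with conjugate involutions. -/
structure Data (P : Sylow 2 G) (V : Subgroup G) : Prop where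
  le : V ≤ (P : Subgroup G)
  card : Nat.card V = 4
  sq : ∀ v ∈ V, v * v = 1
  le_commutator : V ≤ commutator G
  conj : ∀ v ∈ V, ∀ w ∈ V, v ≠ 1 → w ≠ 1 → ∃ g : G, g * v * g⁻¹ = w
  fusion : ∀ x ∈ (P : Subgroup G), ∀ y ∈ (P : Subgroup G), ∀ g : G, g * x * g⁻¹ = y → x⁻¹ * y ∈ V

theorem commutator_self_mem {g x : G} : g * x * g⁻¹ * x⁻¹ ∈ commutator G :=
  Subgroup.commutator_mem_commutator (Subgroup.mem_top g) (Subgroup.mem_top x)

/-- Odd order elements have odd orbits. -/
theorem conj_eq_of_sq {m y : G} (hm : Odd (orderOf m)) (h : m * m * y * (m * m)⁻¹ = y) : m * y * m⁻¹ = y := by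
  have h1 : m * m ∈ Subgroup.centralizer ({y} : Set G) := Subgroup.mem_centralizer_singleton_iff.mpr
    (mul_inv_eq_iff_eq_mul.mp h)
  rw [mul_inv_eq_iff_eq_mul]
  exact Subgroup.mem_centralizer_singleton_iff.mp (mem_of_sq_mem hm h1)

theorem abelian_data (P : Sylow 2 G) (hk : 2 * Nat.card (Classes2 G) = Nat.card (P : Subgroup G))
    (hab : IsMulCommutative (P : Subgroup G)) : ∃ V, Data P V := by
  classical
  haveI : Fact (Nat.Prime 2) := ⟨Nat.prime_two⟩
  letI : Fintype G := Fintype.ofFinite G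
  set p := Nat.card (P : Subgroup G) with hp
  have hp0 : 0 < p := Nat.card_pos
  have hcomm : ∀ a ∈ (P : Subgroup G), ∀ b ∈ (P : Subgroup G), a * b = b * a := fun a ha b hb =>
    congrArg Subtype.val (hab.1.comm ⟨a, ha⟩ ⟨b, hb⟩)
  have hni : ¬ Function.Injective (cls P) := fun h => by
    have := Nat.card_le_card_of_injective _ h
    omega
  simp only [Function.Injective, not_forall] at hni
  obtain ⟨x, y, hxy, hne⟩ := hni
  obtain ⟨g, hg⟩ := (cls_eq_iff P x y).mp hxy
  obtain ⟨n, hn, hnx⟩ := CfsgLib.TransferApps.exists_normalizer_conj_of_abelian P hab x.2 (g := g) (hg ▸ y.2)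
  obtain ⟨u, hu, m, hm, hmo, rfl⟩ := normalizer_split P hn
  have hmP : ∀ {z : G}, z ∈ (P : Subgroup G) → m * z * m⁻¹ ∈ (P : Subgroup G) := fun hz =>
    (Subgroup.mem_normalizer_iff.mp hm _).mp hz
  have hxm : m * (x : G) * m⁻¹ ≠ x := fun e => hne (Subtype.ext (by
    rw [← hg, ← hnx, show u * m * (x : G) * (u * m)⁻¹ = u * (m * x * m⁻¹) * u⁻¹ by group, e, hcomm u hu x x.2,
      mul_inv_cancel_right]))
  let φ : (P : Subgroup G) →* G :=
    MonoidHom.mk' (fun z => m * (z : G) * m⁻¹ * (z : G)⁻¹) fun a b => by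
      have e : (m * (b : G) * m⁻¹ * (b : G)⁻¹) * (a : G)⁻¹ = (a : G)⁻¹ * (m * (b : G) * m⁻¹ * (b : G)⁻¹) :=
        hcomm _ (mul_mem (hmP b.2) (inv_mem b.2)) _ (inv_mem a.2)
      calc m * ((a * b : (P : Subgroup G)) : G) * m⁻¹ * ((a * b : (P : Subgroup G)) : G)⁻¹
          = m * (a : G) * m⁻¹ * ((m * (b : G) * m⁻¹ * (b : G)⁻¹) * (a : G)⁻¹) := by
            rw [Subgroup.coe_mul]; group
        _ = _ := by rw [e]; group
  have hφ : ∀ z : (P : Subgroup G), φ z = m * (z : G) * m⁻¹ * (z : G)⁻¹ := fun z => rfl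
  set V := φ.range with hV
  have hVP : V ≤ (P : Subgroup G) := by
    rintro _ ⟨z, rfl⟩
    exact mul_mem (hmP z.2) (inv_mem z.2)
  -- the fibres
  have hfix : ∀ z : (P : Subgroup G), φ z = 1 ↔ m * (z : G) * m⁻¹ = z := fun z => by rw [hφ, mul_inv_eq_one]
  let m1 : ↥(P : Subgroup G) → ↥(P : Subgroup G) := fun z => ⟨m * z * m⁻¹, hmP z.2⟩
  let w : ↥(P : Subgroup G) → ℕ := fun z => if φ z = 1 then 3 else 1
  let S : ↥(P : Subgroup G) → Finset ↥(P : Subgroup G) := fun z =>
    if φ z = 1 then {z} else {z, m1 z, m1 (m1 z)}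
  have hcl : ∀ z, cls P (m1 z) = cls P z := fun z =>
    ((cls_eq_iff P z (m1 z)).mpr ⟨m, rfl⟩).symm
  have hw : ∀ z, w z * (S z).card = 3 := fun z => by
    by_cases hz : φ z = 1
    · simp only [w, S, if_pos hz, Finset.card_singleton]
    · have h1 : m * (z : G) * m⁻¹ ≠ z := fun e => hz ((hfix z).mpr e)
      have h2 : m * (m * (z : G) * m⁻¹) * m⁻¹ ≠ z := fun e => h1 (conj_eq_of_sq hmo
        (by rw [_root_.mul_inv_rev]; simpa only [mul_assoc] using e))
      have h3 : m * (m * (z : G) * m⁻¹) * m⁻¹ ≠ m * z * m⁻¹ := fun e => h1 (mul_left_cancel (mul_right_cancel e))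
      simp only [w, S, if_neg hz, one_mul]
      rw [Finset.card_insert_of_notMem, Finset.card_pair]
      · exact fun e => h3 (congrArg Subtype.val e).symm
      · simp only [Finset.mem_insert, Finset.mem_singleton, not_or]
        exact ⟨fun e => h1 (congrArg Subtype.val e).symm, fun e => h2 (congrArg Subtype.val e).symm⟩
  have hS : ∀ z, ∀ b ∈ S z, cls P b = cls P z := fun z b hb => by
    by_cases hz : φ z = 1
    · simp only [S, if_pos hz, Finset.mem_singleton] at hb
      rw [hb]
    · simp only [S, if_neg hz, Finset.mem_insert, Finset.mem_singleton] at hb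
      rcases hb with rfl | rfl | rfl
      · rfl
      · exact hcl z
      · rw [hcl, hcl]
  obtain ⟨hle, heq⟩ := fibre_count (cls P) (cls_surjective P) w S 3 (by norm_num) hw hS
  have hker : (Finset.univ.filter fun z : (P : Subgroup G) => φ z = 1).card = Nat.card φ.ker := by
    rw [Nat.card_eq_fintype_card, Fintype.card_of_subtype]
    simp [MonoidHom.mem_ker]
  have hsum : ∑ z, w z = p + 2 * Nat.card φ.ker := by
    calc ∑ z, w z = ∑ z : (P : Subgroup G), (1 + if φ z = 1 then 2 else 0) :=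
          Finset.sum_congr rfl fun z _ => by by_cases hz : φ z = 1 <;> simp [w, hz]
      _ = _ := by
        rw [Finset.sum_add_distrib, Finset.sum_ite, Finset.sum_const_zero, Finset.sum_const, Finset.sum_const,
          smul_eq_mul, smul_eq_mul, hker, Finset.card_univ, hp, Nat.card_eq_fintype_card (α := ↥(P : Subgroup G))]
        omega
  have hcard : Nat.card φ.ker * Nat.card V = p := by
    rw [hp, ← φ.ker.card_mul_index, Subgroup.index_ker]
  have h4 : Nat.card V ≤ 4 := by
    have h0 : 0 < Nat.card φ.ker := Nat.card_pos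
    refine Nat.le_of_mul_le_mul_left ?_ h0
    rw [hcard]
    omega
  -- `m` moves every nontrivial element of `V`
  have hpow : ∀ v ∈ (P : Subgroup G), m * v * m⁻¹ = v → ∀ z ∈ (P : Subgroup G), m * z * m⁻¹ = v * z →
      ∀ j : ℕ, m ^ j * z * (m ^ j)⁻¹ = v ^ j * z := fun v _ hfv z _ hz j => by
    induction j with
    | zero => simp
    | succ j ih =>
      calc m ^ (j + 1) * z * (m ^ (j + 1))⁻¹ = m * (m ^ j * z * (m ^ j)⁻¹) * m⁻¹ := by rw [pow_succ']; group
        _ = m * v ^ j * m⁻¹ * (m * z * m⁻¹) := by rw [ih]; group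
        _ = v ^ (j + 1) * z := by rw [← conj_pow, hfv, hz, pow_succ, mul_assoc]
  have hfpf : ∀ v ∈ V, m * v * m⁻¹ = v → v = 1 := fun v hv hfv => by
    obtain ⟨z, rfl⟩ := hv
    have h1 := hpow _ (hVP ⟨z, rfl⟩) hfv z z.2 (by rw [hφ]; group) (orderOf m)
    rw [pow_orderOf_eq_one, one_mul, inv_one, mul_one] at h1
    have h2 : φ z ^ orderOf m = 1 := by simpa using h1
    obtain ⟨k, hk⟩ := P.2 ⟨φ z, hVP ⟨z, rfl⟩⟩
    have h3 : φ z ^ 2 ^ k = 1 := congrArg Subtype.val hk
    have h5 := pow_gcd_eq_one.mpr ⟨h2, h3⟩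
    rwa [Nat.Coprime.pow_right k (Nat.coprime_two_right.mpr hmo), pow_one] at h5
  have hmV : ∀ v ∈ V, m * v * m⁻¹ ∈ V := by
    rintro _ ⟨z, rfl⟩
    exact ⟨m1 z, by simp only [hφ, m1]; group⟩
  have hx1 : φ x ∈ V := ⟨x, rfl⟩
  have hx0 : φ x ≠ 1 := fun e => hxm ((hfix x).mp e)
  obtain ⟨k, hkV⟩ := IsPGroup.iff_card.mp (P.2.to_le hVP)
  have hV4 : Nat.card V = 4 := by
    have h3 : 2 < Nat.card V := by
      have hsub : (({1, φ x, m * φ x * m⁻¹} : Finset G) : Set G) ⊆ (V : Set G) := by
        intro a ha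
        simp only [Finset.coe_insert, Finset.coe_singleton, Set.mem_insert_iff, Set.mem_singleton_iff] at ha
        rcases ha with rfl | rfl | rfl
        · exact one_mem V
        · exact hx1
        · exact hmV _ hx1
      have h := Set.ncard_le_ncard hsub
      rw [Set.ncard_coe_finset, ← Nat.card_coe_set_eq] at h
      rw [Finset.card_insert_of_notMem, Finset.card_pair] at h
      · exact h
      · exact fun e => hx0 (hfpf _ hx1 e.symm)
      · simp only [Finset.mem_insert, Finset.mem_singleton, not_or]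
        exact ⟨fun e => hx0 e.symm, fun e => hx0 (mul_eq_left.mp (by
          rw [eq_comm, mul_inv_eq_one] at e; exact e))⟩
    rcases k with _ | _ | _ | k <;> simp only [pow_succ, pow_zero, one_mul] at hkV <;> omega
  have hsq : ∀ v ∈ V, v * v = 1 := fun v hv => by
    by_contra h1
    have ho : orderOf v = 4 := by
      have hd : orderOf v ∣ 2 ^ 2 := by rw [show (2 : ℕ) ^ 2 = Nat.card V by rw [hV4]; norm_num]; exact Subgroup.orderOf_dvd_natCard V hv
      obtain ⟨i, hi, he⟩ := (Nat.dvd_prime_pow Nat.prime_two).mp hd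
      have hp2 := pow_orderOf_eq_one v
      interval_cases i <;> rw [he] at hp2
      · exact absurd (show v * v = 1 by rw [pow_zero, pow_one] at hp2; rw [hp2, one_mul]) h1
      · exact absurd (show v * v = 1 by rwa [pow_one, pow_two] at hp2) h1
      · exact he
    have hVv : Subgroup.zpowers v = V :=
      Subgroup.eq_of_le_of_card_ge (Subgroup.zpowers_le.mpr hv) (by rw [hV4, Nat.card_zpowers, ho])
    refine h1 (hfpf _ (mul_mem hv hv) ?_)
    obtain ⟨i, hi, hie⟩ := (IsOfFinOrder.mem_zpowers_iff_mem_range_orderOf (isOfFinOrder_of_finite v)).mp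
      (hVv.symm ▸ hmV v hv : m * v * m⁻¹ ∈ Subgroup.zpowers v) |> Finset.mem_image.mp
    rw [Finset.mem_range, ho] at hi
    have hsqe : m * (v * v) * m⁻¹ = v ^ i * v ^ i := by rw [hie]; group
    have hv4 : v ^ 4 = 1 := ho ▸ pow_orderOf_eq_one v
    interval_cases i
    · exact absurd (show v = 1 by
        have : m * v * m⁻¹ = 1 := by rw [← hie, pow_zero]
        simpa using this) fun e => h1 (by rw [e, mul_one])
    · rw [hsqe, pow_one]
    · exact absurd (show v * v = 1 by
        have : m * (v * v) * m⁻¹ = 1 := by rw [hsqe, ← pow_add, hv4]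
        simpa using this) h1
    · rw [hsqe, ← pow_add, show 3 + 3 = 4 + 2 by rfl, pow_add, hv4, one_mul, pow_two]
  have hker4 : 4 * Nat.card φ.ker = p := by rw [← hcard, hV4, mul_comm]
  have hall := heq.mp (by rw [hsum]; omega)
  refine ⟨V, hVP, hV4, hsq, ?_, ?_, ?_⟩
  · rintro _ ⟨z, rfl⟩
    exact commutator_self_mem
  · intro v hv v' hv' hv1 hv1'
    have hne1 : m * v * m⁻¹ ≠ v := fun e => hv1 (hfpf v hv e)
    have hne2 : m * (m * v * m⁻¹) * m⁻¹ ≠ v := fun e => hne1 (conj_eq_of_sq hmo (by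
      conv_rhs => rw [← e]
      group))
    have hne3 : m * (m * v * m⁻¹) * m⁻¹ ≠ m * v * m⁻¹ := fun e => hne1 (mul_left_cancel (mul_right_cancel e))
    have hsub : ({1, v, m * v * m⁻¹, m * (m * v * m⁻¹) * m⁻¹} : Finset G) = Set.Finite.toFinset (Set.toFinite (V : Set G)) := by
      refine Finset.eq_of_subset_of_card_le (fun a ha => (Set.Finite.mem_toFinset _).mpr ?_) ?_
      · simp only [Finset.mem_insert, Finset.mem_singleton] at ha
        rcases ha with rfl | rfl | rfl | rfl
        · exact one_mem V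
        · exact hv
        · exact hmV _ hv
        · exact hmV _ (hmV _ hv)
      · rw [← Set.ncard_eq_toFinset_card, ← Nat.card_coe_set_eq]
        refine (show Nat.card ↥V ≤ _ from ?_)
        rw [hV4, Finset.card_insert_of_notMem, Finset.card_insert_of_notMem, Finset.card_pair hne3.symm]
        · simp only [Finset.mem_insert, Finset.mem_singleton, not_or]
          exact ⟨hne1.symm, hne2.symm⟩
        · simp only [Finset.mem_insert, Finset.mem_singleton, not_or]
          refine ⟨hv1.symm, fun e => hv1 (by simpa using e.symm), fun e => hv1 (by simpa using e.symm)⟩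
    have hv'm : v' ∈ Set.Finite.toFinset (Set.toFinite (V : Set G)) := (Set.Finite.mem_toFinset _).mpr hv'
    rw [← hsub] at hv'm
    simp only [Finset.mem_insert, Finset.mem_singleton, hv1', false_or] at hv'm
    rcases hv'm with rfl | rfl | rfl
    · exact ⟨1, by simp⟩
    · exact ⟨m, rfl⟩
    · exact ⟨m * m, by group⟩
  · intro a ha b hb g hg
    have := hall ⟨a, ha⟩ ⟨b, hb⟩ ((cls_eq_iff P ⟨a, ha⟩ ⟨b, hb⟩).mpr ⟨g, hg⟩).symm
    have key : ∀ z : (P : Subgroup G), (z : G)⁻¹ * (m * (z : G) * m⁻¹) ∈ V := fun z => by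
      rw [show (z : G)⁻¹ * (m * (z : G) * m⁻¹) = m * (z : G) * m⁻¹ * (z : G)⁻¹ from
        hcomm _ (inv_mem z.2) _ (hmP z.2)]
      exact ⟨z, rfl⟩
    by_cases hz : φ ⟨a, ha⟩ = 1
    · simp only [S, if_pos hz, Finset.mem_singleton, Subtype.mk.injEq] at this
      rw [this, inv_mul_cancel]; exact one_mem V
    · simp only [S, if_neg hz, Finset.mem_insert, Finset.mem_singleton] at this
      rcases this with e | e | e <;> replace e := congrArg Subtype.val e <;> simp only [m1] at e <;> rw [e]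
      · rw [inv_mul_cancel]; exact one_mem V
      · exact key ⟨a, ha⟩
      · have := mul_mem (key ⟨a, ha⟩) (key (m1 ⟨a, ha⟩))
        simpa [m1, mul_assoc] using this

end CfsgLib.TwoClassHalf
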