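import Cfsg.Agent.Lib.CharTheory.Irr
import Cfsg.Agent.Lib.CharTheory.Linear
import Cfsg.Agent.Lib.TransferApps
import Cfsg.Agent.Lib.ZStar.Main

/-!
Counting the classes of `2`-elements: the fibre count and the bound `4 k(P) ≤ |P| + 3 |P : P'|`.
-/

set_option autoImplicit false
set_option linter.unusedSectionVars false
set_option linter.style.haveILetI false

namespace CfsgLib.TwoClassHalf

open Cfsg Finset

universe u

section Fibre

variable {α β : Type*} [Fintype α] [Finite β] (f : α → β)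

/-- If every point carries a weight `w` and lies with a set `S` of cardinality `L / w` in its fibre, then the total
weight is at least `L` times the number of fibres, with equality exactly if the sets are the whole fibres. -/
theorem fibre_count (hf : Function.Surjective f) (w : α → ℕ) (S : α → Finset α) (L : ℕ) (hL : 0 < L)
    (hw : ∀ a, w a * (S a).card = L) (hS : ∀ a, ∀ b ∈ S a, f b = f a) :
    L * Nat.card β ≤ ∑ a, w a ∧ ((∑ a, w a = L * Nat.card β) ↔ ∀ a b, f b = f a → b ∈ S a) := by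
  classical
  letI := Fintype.ofFinite β
  have hsub : ∀ a, S a ⊆ univ.filter (fun b => f b = f a) := fun a b hb =>
    mem_filter.mpr ⟨mem_univ _, hS a b hb⟩
  set D : β → Finset α := fun y => univ.filter (fun b => f b = y) with hD
  have hDne : ∀ y, 0 < (D y).card := fun y => by
    obtain ⟨a, rfl⟩ := hf y
    exact Finset.card_pos.mpr ⟨a, mem_filter.mpr ⟨mem_univ _, rfl⟩⟩
  have hpt : ∀ y, ∀ a ∈ D y, L ≤ w a * (D y).card := fun y a ha => by
    obtain rfl := (mem_filter.mp ha).2
    rw [← hw a]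
    exact Nat.mul_le_mul_left _ (Finset.card_le_card (hsub a))
  have hfib : ∀ y, L ≤ ∑ a ∈ D y, w a ∧ (∑ a ∈ D y, w a = L ↔ ∀ a ∈ D y, w a * (D y).card = L) := by
    intro y
    have h1 : (D y).card * L ≤ (∑ a ∈ D y, w a) * (D y).card := by
      rw [Finset.sum_mul, ← smul_eq_mul, ← Finset.sum_const]
      exact Finset.sum_le_sum (hpt y)
    refine ⟨Nat.le_of_mul_le_mul_left (by linarith) (hDne y), fun he a ha => ?_, fun h => ?_⟩
    · refine ((Finset.sum_eq_sum_iff_of_le (hpt y)).mp ?_ a ha).symm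
      rw [Finset.sum_const, smul_eq_mul, ← Finset.sum_mul, he, mul_comm]
    · refine Nat.eq_of_mul_eq_mul_right (hDne y) ?_
      rw [Finset.sum_mul, Finset.sum_congr rfl h, Finset.sum_const, smul_eq_mul, mul_comm]
  have hsum : ∑ a, w a = ∑ y, ∑ a ∈ D y, w a := (Finset.sum_fiberwise univ f w).symm
  have hLc : L * Nat.card β = ∑ _y : β, L := by
    rw [Finset.sum_const, smul_eq_mul, Nat.card_eq_fintype_card, Finset.card_univ, mul_comm]
  refine ⟨by rw [hsum, hLc]; exact Finset.sum_le_sum fun y _ => (hfib y).1, fun he a b hab => ?_, fun h => ?_⟩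
  · rw [hsum, hLc] at he
    have h1 := ((Finset.sum_eq_sum_iff_of_le fun y _ => (hfib y).1).mp he.symm (f a) (mem_univ _)).symm
    have h2 := (hfib (f a)).2.mp h1 a (mem_filter.mpr ⟨mem_univ _, rfl⟩)
    rw [← hw a] at h2
    have hw0 : 0 < w a := Nat.pos_of_ne_zero fun e => by have := hw a; rw [e, zero_mul] at this; omega
    have h3 := Finset.eq_of_subset_of_card_le (hsub a) (Nat.eq_of_mul_eq_mul_left hw0 h2).le
    rw [h3]
    exact mem_filter.mpr ⟨mem_univ _, hab⟩
  · rw [hsum, hLc]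
    refine Finset.sum_congr rfl fun y _ => (hfib y).2.mpr fun a ha => ?_
    obtain rfl := (mem_filter.mp ha).2
    rw [← hw a, Finset.Subset.antisymm (hsub a) fun b hb => h a b (mem_filter.mp hb).2]

end Fibre

variable {G : Type u} [Group G] [Finite G]

/-- `4 k(G) ≤ |G| + 3 |G : G'|`. -/
theorem four_mul_card_conjClasses_le :
    4 * Nat.card (ConjClasses G) ≤ Nat.card G + 3 * (commutator G).index := by
  classical
  letI : Fintype G := Fintype.ofFinite G
  choose δ hδ using fun χ : IrrCharacter G => CfsgLib.CharTheory.char_one_eq_natCast (CfsgLib.CharTheory.isCharacter_of_irr χ.2)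
  have hsum : ∑ χ : IrrCharacter G, δ χ ^ 2 = Nat.card G := by
    have h := CfsgLib.CharTheory.sum_irr_degree_sq (G := G)
    simp only [hδ] at h
    exact_mod_cast h
  have hpos : ∀ χ : IrrCharacter G, 0 < δ χ := fun χ => Nat.pos_of_ne_zero fun e =>
    CfsgLib.CharTheory.irr_ne_zero χ.2 (by rw [hδ χ, e, Nat.cast_zero])
  have hlin : (univ.filter fun χ : IrrCharacter G => δ χ = 1).card = (commutator G).index := by
    rw [← CfsgLib.CharTheory.card_linear, Nat.card_eq_fintype_card, Fintype.card_subtype]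
    congr 1
    ext χ
    simp only [mem_filter, mem_univ, true_and, hδ χ, Nat.cast_eq_one]
  rw [← CfsgLib.CharTheory.card_irr_eq_card_conjClasses, Nat.card_eq_fintype_card, ← hsum, ← hlin]
  calc 4 * Fintype.card (IrrCharacter G) = ∑ _χ : IrrCharacter G, 4 := by
        rw [Finset.sum_const, smul_eq_mul, Finset.card_univ, mul_comm]
    _ ≤ ∑ χ : IrrCharacter G, (δ χ ^ 2 + if δ χ = 1 then 3 else 0) := Finset.sum_le_sum fun χ _ => by
        rcases eq_or_ne (δ χ) 1 with h | h
        · rw [if_pos h, h]; norm_num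
        · rw [if_neg h, add_zero]
          have : 2 ≤ δ χ := by have := hpos χ; omega
          nlinarith
    _ = _ := by
        rw [Finset.sum_add_distrib, Finset.sum_ite, Finset.sum_const, Finset.sum_const, smul_eq_mul, smul_eq_mul,
          mul_comm _ 3, mul_zero, add_zero]

/-- The classes consisting of `2`-elements. -/
abbrev Classes2 (G : Type u) [Group G] :=
  {c : ConjClasses G // ∀ x ∈ c.carrier, ∃ k : ℕ, orderOf x = 2 ^ k}

/-- The class of an element of a Sylow `2`-subgroup. -/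
def cls (P : Sylow 2 G) (x : (P : Subgroup G)) : Classes2 G :=
  ⟨ConjClasses.mk (x : G), fun y hy => by
    haveI : Fact (Nat.Prime 2) := ⟨Nat.prime_two⟩
    obtain ⟨k, hk⟩ := IsPGroup.iff_orderOf.mp P.2 x
    obtain ⟨g, rfl⟩ := isConj_iff.mp (ConjClasses.mk_eq_mk_iff_isConj.mp (ConjClasses.mem_carrier_iff_mk_eq.mp hy).symm)
    exact ⟨k, by rw [CfsgLib.ZStar.orderOf_conj, Subgroup.orderOf_coe, hk]⟩⟩

theorem cls_eq_iff (P : Sylow 2 G) (x y : (P : Subgroup G)) :
    cls P x = cls P y ↔ ∃ g : G, g * (x : G) * g⁻¹ = y := by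
  rw [cls, cls, Subtype.mk.injEq, ConjClasses.mk_eq_mk_iff_isConj, isConj_iff]

theorem cls_surjective (P : Sylow 2 G) : Function.Surjective (cls P) := by
  haveI : Fact (Nat.Prime 2) := ⟨Nat.prime_two⟩
  rintro ⟨c, hc⟩
  obtain ⟨x, rfl⟩ := ConjClasses.exists_rep c
  obtain ⟨k, hk⟩ := hc x ConjClasses.mem_carrier_mk
  obtain ⟨Q, hQ⟩ := (IsPGroup.of_card (p := 2) (G := Subgroup.zpowers x) (by rw [Nat.card_zpowers, hk])).exists_le_sylow
  obtain ⟨g, hg⟩ := MulAction.exists_smul_eq G Q P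
  have hxP : g * x * g⁻¹ ∈ (P : Subgroup G) := by
    rw [← hg, Sylow.coe_subgroup_smul, Subgroup.mem_pointwise_smul_iff_inv_smul_mem]
    simpa [MulAut.conj_symm_apply, mul_assoc] using hQ (Subgroup.mem_zpowers x)
  refine ⟨⟨_, hxP⟩, Subtype.ext (ConjClasses.mk_eq_mk_iff_isConj.mpr (isConj_iff.mpr ⟨g⁻¹, ?_⟩))⟩
  show g⁻¹ * (g * x * g⁻¹) * g⁻¹⁻¹ = x
  group

theorem card_classes2_le (P : Sylow 2 G) :
    Nat.card (Classes2 G) ≤ Nat.card (ConjClasses (P : Subgroup G)) := by
  refine Nat.card_le_card_of_surjective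
    (Quotient.lift (cls P) fun a b (h : IsConj a b) => (cls_eq_iff P a b).mpr ?_) ?_
  · obtain ⟨g, hg⟩ := isConj_iff.mp h
    exact ⟨(g : G), congrArg Subtype.val hg⟩
  · intro c
    obtain ⟨x, rfl⟩ := cls_surjective P c
    exact ⟨ConjClasses.mk x, rfl⟩

/-- An element normalising a subgroup is a power product of an odd-order normalising element and a `2`-element. -/
theorem exists_two_part (n : G) : ∃ i j : ℕ, Odd (orderOf (n ^ i)) ∧ (∃ k, orderOf (n ^ j) = 2 ^ k) ∧ n ^ j * n ^ i = n := by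
  have hpos := orderOf_pos n
  set r := ordCompl[2] (orderOf n)
  set q := ordProj[2] (orderOf n)
  have hqr : q * r = orderOf n := Nat.ordProj_mul_ordCompl_eq_self _ _
  have hco : Nat.Coprime q r := Nat.Coprime.pow_left _ (Nat.coprime_ordCompl Nat.prime_two hpos.ne')
  obtain ⟨i, hi1, hi2⟩ := Nat.chineseRemainder hco 0 1
  obtain ⟨j, hj1, hj2⟩ := Nat.chineseRemainder hco 1 0
  have hdr : ∀ t m : ℕ, q * r ∣ t * m → orderOf (n ^ t) ∣ m := fun t m h =>
    orderOf_dvd_of_pow_eq_one (by rw [← pow_mul]; exact orderOf_dvd_iff_pow_eq_one.mp (hqr ▸ h))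
  refine ⟨i, j, ?_, ?_, ?_⟩
  · refine Odd.of_dvd_nat ?_ (hdr i r (Nat.mul_dvd_mul_right (Nat.modEq_zero_iff_dvd.mp hi1) r))
    exact Nat.coprime_two_left.mp (Nat.coprime_ordCompl Nat.prime_two hpos.ne')
  · have h := hdr j q (by rw [mul_comm q r]; exact Nat.mul_dvd_mul_right (Nat.modEq_zero_iff_dvd.mp hj2) q)
    obtain ⟨k, -, hk⟩ := (Nat.dvd_prime_pow Nat.prime_two).mp h
    exact ⟨k, hk⟩
  · conv_rhs => rw [← pow_one n]
    rw [← pow_add, pow_eq_pow_iff_modEq, ← hqr]
    refine (Nat.modEq_and_modEq_iff_modEq_mul hco).mp ⟨?_, ?_⟩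
    · simpa using hj1.add hi1
    · simpa using hj2.add hi2

/-- An element normalising a Sylow `2`-subgroup is the product of an element of it and a normalising odd one. -/
theorem normalizer_split (P : Sylow 2 G) {n : G} (hn : n ∈ Subgroup.normalizer ((P : Subgroup G) : Set G)) :
    ∃ u ∈ (P : Subgroup G), ∃ m ∈ Subgroup.normalizer ((P : Subgroup G) : Set G), Odd (orderOf m) ∧ u * m = n := by
  haveI : Fact (Nat.Prime 2) := ⟨Nat.prime_two⟩
  obtain ⟨i, j, hi, ⟨k, hk⟩, h⟩ := exists_two_part n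
  exact ⟨n ^ j, CfsgLib.TransferApps.mem_sylow_of_mem_normalizer P (pow_mem hn j) ⟨k, hk ▸ pow_orderOf_eq_one _⟩, n ^ i, pow_mem hn i, hi, h⟩

/-- Odd powers: a set of conjugation-fixed points of `m ^ 2` is one of `m`. -/
theorem mem_of_sq_mem {K : Subgroup G} {m : G} (hm : Odd (orderOf m)) (h : m * m ∈ K) : m ∈ K := by
  obtain ⟨t, ht⟩ := hm
  have e : (m * m) ^ (t + 1) = m := by
    rw [← pow_two, ← pow_mul, show 2 * (t + 1) = orderOf m + 1 by omega, pow_add, pow_orderOf_eq_one, one_mul,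
      pow_one]
  exact e ▸ pow_mem h _

end CfsgLib.TwoClassHalf
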