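import Cfsg.Agent.Lib.TwoClassHalf.Rigid

/-!
A non-abelian Sylow `2`-subgroup: all fusion takes place in one abelian maximal subgroup.
-/

set_option autoImplicit false
set_option linter.unusedSectionVars false
set_option linter.style.haveILetI false

namespace CfsgLib.TwoClassHalf

open Cfsg Finset
open scoped commutatorElement

universe u

variable {G : Type u} [Group G] [Finite G]

/-- A subgroup with an element outside such that the product of two outside elements is inside has index two. -/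
theorem two_mul_card {H K : Subgroup G} (hHK : H ≤ K) {a : G} (ha : a ∈ K) (haH : a ∉ H)
    (h : ∀ b ∈ K, b ∉ H → b * a ∈ H) : 2 * Nat.card H = Nat.card K := by
  have hidx : (H.subgroupOf K).index = 2 := by
    refine Subgroup.index_eq_two_iff.mpr ⟨⟨a, ha⟩, fun b => ?_⟩
    simp only [Subgroup.mem_subgroupOf, Subgroup.coe_mul]
    by_cases hb : (b : G) ∈ H
    · exact Or.inr ⟨hb, fun hba => haH (by simpa using mul_mem (inv_mem hb) hba)⟩
    · exact Or.inl ⟨h b b.2 hb, hb⟩
  have := (H.subgroupOf K).card_mul_index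
  rw [hidx, Nat.card_congr (Subgroup.subgroupOfEquivOfLe hHK).toEquiv] at this
  linarith

namespace Rigid

variable {P : Sylow 2 G} {c : G} (R : Rigid P c)
include R

theorem false_of_central (hz : ∀ g : G, g * c * g⁻¹ = c) : False := by
  classical
  haveI : Fact (Nat.Prime 2) := ⟨Nat.prime_two⟩
  letI : Fintype G := Fintype.ofFinite G
  set T := (P : Subgroup G)
  let cen : T → Prop := fun y => ∀ a ∈ T, a * (y : G) = y * a
  let cm : T → T := fun y => ⟨c * y, mul_mem R.hc y.2⟩
  let w : T → ℕ := fun y => if cen y then 2 else 1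
  let S : T → Finset T := fun y => if cen y then {y} else {y, cm y}
  have hw : ∀ y, w y * (S y).card = 2 := fun y => by
    by_cases hcn : cen y
    · simp only [w, S, if_pos hcn, Finset.card_singleton, mul_one]
    · simp only [w, S, if_neg hcn, one_mul]
      exact Finset.card_pair fun e => R.c_mul_ne _ (congrArg Subtype.val e).symm
  have hS : ∀ y, ∀ b ∈ S y, cls P b = cls P y := fun y b hb => by
    by_cases hcn : cen y
    · simp only [S, if_pos hcn, Finset.mem_singleton] at hb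
      rw [hb]
    · simp only [S, if_neg hcn, Finset.mem_insert, Finset.mem_singleton] at hb
      rcases hb with rfl | rfl
      · rfl
      · obtain ⟨a, ha, hay⟩ := R.noncentral y.2 hcn
        exact ((cls_eq_iff P y (cm y)).mpr ⟨a, hay⟩).symm
  have heq := (fibre_count (cls P) (cls_surjective P) w S 2 (by norm_num) hw hS).2
  have key : ∀ a b : T, cls P b = cls P a → b ∈ S a := by
    intro a b hab
    obtain ⟨g, hg⟩ := (cls_eq_iff P a b).mp hab.symm
    have hnc : ∀ x : T, ∀ u ∈ T, ∀ z : G, (z = x ∨ z = c * x) → (u * z * u⁻¹ = x ∨ u * z * u⁻¹ = c * x) := by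
      intro x u hu z hzx
      have e : u * (c * x) * u⁻¹ = c * (u * x * u⁻¹) := by
        rw [show u * (c * (x : G)) * u⁻¹ = u * c * u⁻¹ * (u * x * u⁻¹) by group, hz u]
      rcases hzx with rfl | rfl <;> rcases R.comm u hu x x.2 with e' | e'
      · exact Or.inl e'
      · exact Or.inr e'
      · exact Or.inr (by rw [e, e'])
      · exact Or.inl (by rw [e, e', R.c_mul_c])
    have hsets := R.normal_subsets_eq {(a : G), c * a} {(b : G), c * b}
      (by intro z hz'; simp only [Set.mem_insert_iff, Set.mem_singleton_iff] at hz'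
          rcases hz' with rfl | rfl
          exacts [a.2, mul_mem R.hc a.2])
      (fun u hu z hz' => by simpa using hnc a u hu z (by simpa using hz'))
      (fun u hu z hz' => by simpa using hnc b u hu z (by simpa using hz'))
      (g := g) (by
        rw [Set.image_insert_eq, Set.image_singleton, hg,
          show g * (c * (a : G)) * g⁻¹ = g * c * g⁻¹ * (g * a * g⁻¹) by group, hz, hg])
    have hb : (b : G) = a ∨ (b : G) = c * a := by
      have h1 : (b : G) ∈ ({(a : G), c * a} : Set G) := hsets ▸ Set.mem_insert _ _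
      simpa using h1
    by_cases hcn : cen a
    · have hcb : ∀ u ∈ T, u * (b : G) = b * u := fun u hu => by
        rcases hb with e | e <;> rw [e]
        · exact hcn u hu
        · rw [← mul_assoc, R.c_comm' hu, mul_assoc, hcn u hu, ← mul_assoc]
      simp only [S, if_pos hcn, Finset.mem_singleton]
      exact Subtype.ext (R.central_eq a.2 hcn hcb hg)
    · simp only [S, if_neg hcn, Finset.mem_insert, Finset.mem_singleton]
      exact hb.imp Subtype.ext Subtype.ext
  have h1 : ∑ y, w y = 2 * Nat.card (Classes2 G) := heq.mpr key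
  have h2 : Fintype.card T + 1 ≤ ∑ y, w y := by
    calc Fintype.card T + 1 = ∑ y : T, 1 + 1 := by simp
      _ ≤ ∑ y : T, 1 + ∑ y : T, if cen y then 1 else 0 := by
          refine Nat.add_le_add_left ?_ _
          exact le_trans (le_of_eq (if_pos (show cen 1 from fun a _ => by simp)).symm)
            (Finset.single_le_sum (f := fun y : T => if cen y then 1 else 0) (fun y _ => Nat.zero_le _)
              (Finset.mem_univ 1))
      _ = ∑ y, w y := by
          rw [← Finset.sum_add_distrib]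
          exact Finset.sum_congr rfl fun y _ => by by_cases hcn : cen y <;> simp [w, hcn]
  have hk : 2 * Nat.card (Classes2 G) = Nat.card T := R.hk
  rw [h1, hk, Nat.card_eq_fintype_card] at h2
  omega

/-- A noncentral conjugate of `c` in `P`, with the transporting element carrying its centralizer into `P`. -/
theorem exists_transport (hO : pPrimeCore 2 G = ⊥) :
    ∃ x ∈ (P : Subgroup G), ∃ h : G, x ≠ c ∧ h * x * h⁻¹ = c ∧
      ∀ a ∈ (P : Subgroup G), a * x = x * a → h * a * h⁻¹ ∈ (P : Subgroup G) := by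
  haveI : Fact (Nat.Prime 2) := ⟨Nat.prime_two⟩
  set Cc := Subgroup.centralizer ({c} : Set G)
  have hPC : (P : Subgroup G) ≤ Cc := fun a ha => Subgroup.mem_centralizer_singleton_iff.mpr (R.c_comm' ha)
  let PC : Sylow 2 Cc := P.subtype hPC
  have conjIn : ∀ {Q : Subgroup G}, IsPGroup 2 Q → Q ≤ Cc → ∃ k ∈ Cc, ∀ a ∈ Q, k * a * k⁻¹ ∈ (P : Subgroup G) := by
    intro Q hQ hQC
    obtain ⟨S, hS⟩ := (hQ.of_equiv (Subgroup.subgroupOfEquivOfLe hQC).symm).exists_le_sylow
    obtain ⟨k, hk⟩ := MulAction.exists_smul_eq Cc S PC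
    refine ⟨k, k.2, fun a ha => ?_⟩
    have h1 : k * (⟨a, hQC ha⟩ : Cc) * k⁻¹ ∈ (PC : Subgroup Cc) := by
      rw [← hk, Sylow.coe_subgroup_smul, Subgroup.mem_pointwise_smul_iff_inv_smul_mem]
      simpa [MulAut.conj_symm_apply, mul_assoc] using hS (show (⟨a, hQC ha⟩ : Cc) ∈ Q.subgroupOf Cc from ha)
    exact h1
  have hord : orderOf c = 2 := orderOf_eq_prime (by rw [pow_two, R.hc2]) R.hc1
  have hiso : ¬ IsIsolated c := fun h => R.false_of_central fun g => by
    have h1 := CfsgLib.ZStar.inZStar hord h g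
    rw [hO, Subgroup.mem_bot] at h1
    exact mul_inv_eq_one.mp h1
  simp only [IsIsolated, not_forall] at hiso
  obtain ⟨g, hgc, hgne⟩ := hiso
  have hd : orderOf (g * c * g⁻¹) = 2 := (CfsgLib.ZStar.orderOf_conj g c).trans hord
  obtain ⟨k, hk, hkP⟩ := conjIn (Q := Subgroup.zpowers (g * c * g⁻¹))
    (IsPGroup.of_card (n := 1) (by rw [Nat.card_zpowers, hd, pow_one]))
    (Subgroup.zpowers_le.mpr (Subgroup.mem_centralizer_singleton_iff.mpr hgc.eq.symm))
  set x := k * (g * c * g⁻¹) * k⁻¹ with hxdef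
  have hxP : x ∈ (P : Subgroup G) := hkP _ (Subgroup.mem_zpowers _)
  have hkc : k * c * k⁻¹ = c := mul_inv_eq_iff_eq_mul.mpr (Subgroup.mem_centralizer_singleton_iff.mp hk)
  have hxc : x ≠ c := fun e => hgne (mul_left_cancel (mul_right_cancel (e.trans hkc.symm)))
  set h0 := (k * g)⁻¹
  have h0x : h0 * x * h0⁻¹ = c := by rw [hxdef]; simp only [h0]; group
  set M := ((P : Subgroup G) ⊓ Subgroup.centralizer ({x} : Set G)).map (MulAut.conj h0).toMonoidHom
  obtain ⟨k', hk', hk'P⟩ := conjIn (Q := M) ((P.2.to_le inf_le_left).map _) (by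
    rintro _ ⟨a, ⟨-, hax⟩, rfl⟩
    have h1 := Subgroup.mem_centralizer_singleton_iff.mp hax
    refine Subgroup.mem_centralizer_singleton_iff.mpr ?_
    show h0 * a * h0⁻¹ * c = c * (h0 * a * h0⁻¹)
    rw [← h0x, show h0 * a * h0⁻¹ * (h0 * x * h0⁻¹) = h0 * (a * x) * h0⁻¹ by group, h1]
    group)
  refine ⟨x, hxP, k' * h0, hxc, ?_, fun a ha hax => ?_⟩
  · rw [show k' * h0 * x * (k' * h0)⁻¹ = k' * (h0 * x * h0⁻¹) * k'⁻¹ by group, h0x]
    exact mul_inv_eq_iff_eq_mul.mpr (Subgroup.mem_centralizer_singleton_iff.mp hk')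
  · have h1 := hk'P _ (Subgroup.mem_map_of_mem (MulAut.conj h0).toMonoidHom
      (⟨ha, Subgroup.mem_centralizer_singleton_iff.mpr hax⟩ :
        a ∈ (P : Subgroup G) ⊓ Subgroup.centralizer ({x} : Set G)))
    rw [show k' * h0 * a * (k' * h0)⁻¹ = k' * (h0 * a * h0⁻¹) * k'⁻¹ by group]
    exact h1

/-- Products of two elements conjugating `y` to `c y` fix `y`. -/
theorem twice {a b y : G} (ha : a ∈ (P : Subgroup G)) (h1 : a * y * a⁻¹ = c * y) (h2 : b * y * b⁻¹ = c * y) :
    a * b * y = y * (a * b) := by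
  refine mul_inv_eq_iff_eq_mul.mp ?_
  rw [show a * b * y * (a * b)⁻¹ = a * (b * y * b⁻¹) * a⁻¹ by group, h2,
    show a * (c * y) * a⁻¹ = a * c * a⁻¹ * (a * y * a⁻¹) by group, R.c_comm ha, h1, R.c_mul_c]

theorem nonabelian_data (hO : pPrimeCore 2 G = ⊥) : ∃ V, Data P V := by
  classical
  haveI : Fact (Nat.Prime 2) := ⟨Nat.prime_two⟩
  letI : Fintype G := Fintype.ofFinite G
  obtain ⟨x, hx, h, hxc, hhx, hM⟩ := R.exists_transport hO
  set T := (P : Subgroup G)
  have hxcen : ¬ ∀ a ∈ T, a * x = x * a := fun h' =>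
    hxc (R.central_eq hx h' (fun a ha => R.c_comm' ha) hhx).symm
  obtain ⟨s, hs, hsx⟩ := R.noncentral hx hxcen
  have hx1 : x ≠ 1 := fun e => R.hc1 (by rw [← hhx, e, mul_one, mul_inv_cancel])
  have hxx : x * x = 1 := by
    refine mul_left_cancel (a := h) (mul_right_cancel (b := h⁻¹) ?_)
    rw [show h * (x * x) * h⁻¹ = (h * x * h⁻¹) * (h * x * h⁻¹) by group, hhx, R.hc2, mul_one, mul_inv_cancel]
  set M : Subgroup G := T ⊓ Subgroup.centralizer ({x} : Set G)
  have memM : ∀ {a : G}, a ∈ M ↔ a ∈ T ∧ a * x = x * a := fun {a} => by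
    rw [Subgroup.mem_inf, Subgroup.mem_centralizer_singleton_iff]
  have hxM : x ∈ M := memM.mpr ⟨hx, rfl⟩
  have hcM : c ∈ M := memM.mpr ⟨R.hc, (R.c_comm' hx).symm⟩
  have hsM : s ∉ M := fun h' => R.c_mul_ne x (hsx.symm.trans (mul_inv_eq_iff_eq_mul.mpr (memM.mp h').2))
  have hnotM : ∀ {a : G}, a ∈ T → a ∉ M → a * x * a⁻¹ = c * x := fun {a} ha h' =>
    (R.comm a ha x hx).resolve_left fun e => h' (memM.mpr ⟨ha, mul_inv_eq_iff_eq_mul.mp e⟩)
  have h2M : 2 * Nat.card M = Nat.card T := two_mul_card inf_le_left hs hsM fun b hb hbM =>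
    memM.mpr ⟨mul_mem hb hs, R.twice hb (hnotM hb hbM) hsx⟩
  have hMnormal : ∀ a ∈ T, ∀ z ∈ M, a * z * a⁻¹ ∈ M := fun a ha z hz => by
    rcases R.comm a ha z (memM.mp hz).1 with e | e <;> rw [e]
    exacts [hz, mul_mem hcM hz]
  have hhM : ∀ {a : G}, a ∈ M → h * a * h⁻¹ ∈ T := fun {a} ha => hM a (memM.mp ha).1 (memM.mp ha).2
  have hMab : ∀ a ∈ M, ∀ b ∈ M, a * b = b * a := by
    intro a ha b hb
    rcases R.comm a (memM.mp ha).1 b (memM.mp hb).1 with e | e
    · exact mul_inv_eq_iff_eq_mul.mp e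
    · exfalso
      have e2 : h * a * h⁻¹ * (h * b * h⁻¹) * (h * a * h⁻¹)⁻¹ = h * c * h⁻¹ * (h * b * h⁻¹) := by
        rw [show h * a * h⁻¹ * (h * b * h⁻¹) * (h * a * h⁻¹)⁻¹ = h * (a * b * a⁻¹) * h⁻¹ by group, e]
        group
      rcases R.comm _ (hhM ha) _ (hhM hb) with e1 | e1 <;> rw [e2] at e1
      · exact R.hc1 (by simpa using mul_eq_right.mp e1)
      · exact hxc (mul_left_cancel (mul_right_cancel (hhx.trans (mul_right_cancel e1).symm)))
  -- `h` normalizes `M`
  set B : Subgroup G := M.map (MulAut.conj h).toMonoidHom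
  have hBT : B ≤ T := by rintro _ ⟨a, ha, rfl⟩; exact hhM ha
  have hB2 : 2 * Nat.card B = Nat.card T := by
    rw [← h2M, ← Nat.card_congr (Subgroup.equivMapOfInjective M _ (MulAut.conj h).injective).toEquiv]
  have hBn : ∀ a ∈ T, ∀ z ∈ (B : Set G), a * z * a⁻¹ ∈ (B : Set G) := fun a ha z hz => by
    have hi : (B.subgroupOf T).index = 2 := by
      have h' := (B.subgroupOf T).card_mul_index
      rw [Nat.card_congr (Subgroup.subgroupOfEquivOfLe hBT).toEquiv, ← hB2, mul_comm] at h'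
      exact Nat.eq_of_mul_eq_mul_right Nat.card_pos h'
    haveI := Subgroup.normal_of_index_eq_two hi
    exact (inferInstance : (B.subgroupOf T).Normal).conj_mem ⟨z, hBT hz⟩ hz ⟨a, ha⟩
  have hBM : (B : Set G) = M := R.normal_subsets_eq M B (fun z hz => (memM.mp hz).1) hMnormal hBn (g := h) rfl
  have hhM' : ∀ {a : G}, a ∈ M → h * a * h⁻¹ ∈ M := fun {a} ha => by
    have h' : h * a * h⁻¹ ∈ (B : Set G) := ⟨a, ha, rfl⟩
    rwa [hBM] at h'
  have hhM'' : ∀ {a : G}, a ∈ M → h⁻¹ * a * h ∈ M := fun {a} ha => by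
    have h' : a ∈ (B : Set G) := hBM ▸ ha
    obtain ⟨b, hb, rfl⟩ := h'
    simpa [mul_assoc] using hb
  -- the two centres
  set Z : Subgroup G := M ⊓ Subgroup.centralizer ({s} : Set G)
  have memZ : ∀ {a : G}, a ∈ Z ↔ a ∈ M ∧ a * s = s * a := fun {a} => by
    rw [Subgroup.mem_inf, Subgroup.mem_centralizer_singleton_iff]
  have hsnot : ∀ {a : G}, a ∈ M → a ∉ Z → s * a * s⁻¹ = c * a := fun {a} ha h' =>
    (R.comm s hs a (memM.mp ha).1).resolve_left fun e => h' (memZ.mpr ⟨ha, (mul_inv_eq_iff_eq_mul.mp e).symm⟩)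
  have hxZ : x ∉ Z := fun h' => R.c_mul_ne x (hsx.symm.trans (mul_inv_eq_iff_eq_mul.mpr (memZ.mp h').2.symm))
  have hcZ : c ∈ Z := memZ.mpr ⟨hcM, (R.c_comm' hs).symm⟩
  have prodZ : ∀ {a b : G}, a ∈ M → b ∈ M → a ∉ Z → b ∉ Z → a * b ∈ Z := fun {a b} ha hb h1 h2 => by
    refine memZ.mpr ⟨mul_mem ha hb, (mul_inv_eq_iff_eq_mul.mp ?_).symm⟩
    rw [show s * (a * b) * s⁻¹ = s * a * s⁻¹ * (s * b * s⁻¹) by group, hsnot ha h1, hsnot hb h2, mul_assoc,
      ← mul_assoc a c, R.c_comm' (memM.mp ha).1, mul_assoc c a, R.c_mul_c]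
  have h2Z : 2 * Nat.card Z = Nat.card M := two_mul_card inf_le_left hxM hxZ fun b hb hbZ => prodZ hb hxM hbZ hxZ
  have hcen : ∀ a ∈ Z, ∀ u ∈ T, u * a = a * u := fun a ha u hu => by
    by_cases huM : u ∈ M
    · exact hMab u huM a (memZ.mp ha).1
    · have h1 : u * s ∈ M := memM.mpr ⟨mul_mem hu hs, R.twice hu (hnotM hu huM) hsx⟩
      have h2 := hMab _ h1 a (memZ.mp ha).1
      refine mul_right_cancel (b := s) ?_
      rw [mul_assoc u a s, (memZ.mp ha).2, ← mul_assoc, h2, mul_assoc]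
  set W : Subgroup G := Z ⊓ Z.map (MulAut.conj h⁻¹).toMonoidHom
  have memW : ∀ {a : G}, a ∈ W ↔ a ∈ Z ∧ h * a * h⁻¹ ∈ Z := fun {a} => by
    rw [Subgroup.mem_inf, Subgroup.mem_map_equiv]
    simp [mul_assoc]
  set c' := h * c * h⁻¹ with hc'
  have hc'M : c' ∈ M := hhM' hcM
  have hc'Z : c' ∉ Z := fun h' => hxc (by
    have h1 : c' = c := R.central_eq R.hc (fun a ha => R.c_comm' ha) (hcen _ h') (g := h) rfl
    exact mul_left_cancel (mul_right_cancel (hhx.trans h1.symm)))
  have hcW : c ∉ W := fun h' => hc'Z (memW.mp h').2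
  have h2W : 2 * Nat.card W = Nat.card Z := two_mul_card inf_le_left hcZ hcW fun b hb hbW =>
    memW.mpr ⟨mul_mem hb hcZ, by
      rw [show h * (b * c) * h⁻¹ = h * b * h⁻¹ * c' by rw [hc']; group]
      exact prodZ (hhM' (memZ.mp hb).1) hc'M (fun h' => hbW (memW.mpr ⟨hb, h'⟩)) hc'Z⟩
  -- the conjugating elements
  set t := h⁻¹ * s * h with ht
  have htc : t * c * t⁻¹ = x * c := by
    have h1 : s * c' * s⁻¹ = c * c' := hsnot hc'M hc'Z
    calc t * c * t⁻¹ = h⁻¹ * (s * c' * s⁻¹) * h := by rw [ht, hc']; group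
      _ = h⁻¹ * (h * x * h⁻¹ * c') * h := by rw [h1, hhx]
      _ = x * c := by rw [hc']; group
  have hWfix : ∀ {a : G}, a ∈ W → s * a * s⁻¹ = a ∧ t * a * t⁻¹ = a := fun {a} ha => by
    refine ⟨mul_inv_eq_iff_eq_mul.mpr (memZ.mp (memW.mp ha).1).2.symm, ?_⟩
    have h1 : s * (h * a * h⁻¹) * s⁻¹ = h * a * h⁻¹ := mul_inv_eq_iff_eq_mul.mpr (memZ.mp (memW.mp ha).2).2.symm
    calc t * a * t⁻¹ = h⁻¹ * (s * (h * a * h⁻¹) * s⁻¹) * h := by rw [ht]; group
      _ = a := by rw [h1]; group
  have hWc : ∀ {a : G}, a ∈ W → ∀ {z : G}, z ∈ M → z * a = a * z := fun {a} ha {z} hz =>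
    hMab z hz a (memZ.mp (memW.mp ha).1).1
  -- the four-group
  have hxc' : x * c = c * x := R.c_comm' hx
  let V : Subgroup G :=
    { carrier := {v | v = 1 ∨ v = c ∨ v = x ∨ v = c * x}
      one_mem' := Or.inl rfl
      mul_mem' := by
        intro a b ha hb
        simp only [Set.mem_ofPred_eq] at ha hb ⊢
        rcases ha with rfl | rfl | rfl | rfl <;> rcases hb with rfl | rfl | rfl | rfl
        · left; rw [one_mul]
        · right; left; rw [one_mul]
        · right; right; left; rw [one_mul]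
        · right; right; right; rw [one_mul]
        · right; left; rw [mul_one]
        · left; exact R.hc2
        · right; right; right; rfl
        · right; right; left; rw [R.c_mul_c]
        · right; right; left; rw [mul_one]
        · right; right; right; exact hxc'
        · left; exact hxx
        · right; left; rw [← mul_assoc, hxc', mul_assoc, hxx, mul_one]
        · right; right; right; rw [mul_one]
        · right; right; left; rw [mul_assoc, hxc', R.c_mul_c]
        · right; left; rw [mul_assoc, hxx, mul_one]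
        · left; rw [mul_assoc, ← mul_assoc x c, hxc', mul_assoc c x, hxx, mul_one, R.hc2]
      inv_mem' := by
        intro a ha
        simp only [Set.mem_ofPred_eq] at ha ⊢
        rcases ha with rfl | rfl | rfl | rfl
        · exact Or.inl inv_one
        · exact Or.inr (Or.inl (inv_eq_of_mul_eq_one_right R.hc2))
        · exact Or.inr (Or.inr (Or.inl (inv_eq_of_mul_eq_one_right hxx)))
        · exact Or.inr (Or.inr (Or.inr (inv_eq_of_mul_eq_one_right (by
            rw [mul_assoc, ← mul_assoc x c, hxc', mul_assoc c x, hxx, mul_one, R.hc2])))) }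
  have memV : ∀ {v : G}, v ∈ V ↔ v = 1 ∨ v = c ∨ v = x ∨ v = c * x := Iff.rfl
  have hcxne : c * x ≠ 1 ∧ c * x ≠ c ∧ c * x ≠ x :=
    ⟨fun e => hxc (mul_left_cancel (e.trans R.hc2.symm)), fun e => hx1 (mul_eq_left.mp e), R.c_mul_ne x⟩
  have hcxZ : c * x ∉ Z := fun h' => hxZ (by simpa [R.c_mul_c] using mul_mem hcZ h')
  have hVW : ∀ {v : G}, v ∈ V → v ∈ W → v = 1 := fun {v} hv hw => by
    rcases memV.mp hv with e | e | e | e
    · exact e
    all_goals exfalso; subst e
    · exact hcW hw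
    · exact hxZ (memW.mp hw).1
    · exact hcxZ (memW.mp hw).1
  have hV4 : Nat.card V = 4 := by
    rw [Nat.card_eq_fintype_card, Fintype.card_of_subtype ({1, c, x, c * x} : Finset G)]
    · rw [Finset.card_insert_of_notMem, Finset.card_insert_of_notMem, Finset.card_pair hcxne.2.2.symm]
      · simp only [Finset.mem_insert, Finset.mem_singleton, not_or]
        exact ⟨hxc.symm, hcxne.2.1.symm⟩
      · simp only [Finset.mem_insert, Finset.mem_singleton, not_or]
        exact ⟨R.hc1.symm, hx1.symm, hcxne.1.symm⟩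
    · intro v
      simp only [Finset.mem_insert, Finset.mem_singleton, memV]
  have hVM : V ≤ M := fun v hv => by
    rcases memV.mp hv with rfl | rfl | rfl | rfl
    exacts [one_mem M, hcM, hxM, mul_mem hcM hxM]
  -- decomposition
  have hdec : ∀ a ∈ M, a ∉ W → ∃ v ∈ V, v ≠ 1 ∧ ∃ b ∈ W, a = v * b := fun a ha haW => by
    have hWM : ∀ {z : G}, z ∈ Z → z ∉ W → ∃ b ∈ W, z = c * b := fun {z} hz hzW => by
      refine ⟨c * z, memW.mpr ⟨mul_mem hcZ hz, ?_⟩, (R.c_mul_c z).symm⟩
      rw [show h * (c * z) * h⁻¹ = c' * (h * z * h⁻¹) by rw [hc']; group]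
      exact prodZ hc'M (hhM' (memZ.mp hz).1) hc'Z fun h' => hzW (memW.mpr ⟨hz, h'⟩)
    by_cases haZ : a ∈ Z
    · obtain ⟨b, hb, e⟩ := hWM haZ haW
      exact ⟨c, Or.inr (Or.inl rfl), R.hc1, b, hb, e⟩
    · have h1 : x * a ∈ Z := prodZ hxM ha hxZ haZ
      by_cases h2 : x * a ∈ W
      · exact ⟨x, Or.inr (Or.inr (Or.inl rfl)), hx1, x * a, h2, by rw [← mul_assoc, hxx, one_mul]⟩
      · obtain ⟨b, hb, e⟩ := hWM h1 h2
        refine ⟨c * x, Or.inr (Or.inr (Or.inr rfl)), hcxne.1, b, hb, ?_⟩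
        rw [← hxc', mul_assoc, ← e, ← mul_assoc, hxx, one_mul]
  -- classes
  have hgood : ∀ {b : G}, b ∈ W → ∀ {v : G}, v ∈ V → v ≠ 1 → ∃ g : G, g * (v * b) * g⁻¹ = c * b := by
    intro b hb v hv hv1
    rcases memV.mp hv with e | e | e | e <;> rw [e]
    · exact absurd e hv1
    · exact ⟨1, by simp⟩
    · refine ⟨t⁻¹ * s, ?_⟩
      have e1 : s * (x * b) * s⁻¹ = c * x * b := by
        rw [show s * (x * b) * s⁻¹ = s * x * s⁻¹ * (s * b * s⁻¹) by group, hsx, (hWfix hb).1]
      have e2 : t⁻¹ * (c * x * b) * t⁻¹⁻¹ = c * b := by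
        rw [← hxc', ← htc]
        conv_lhs => rw [← (hWfix hb).2]
        group
      rw [show t⁻¹ * s * (x * b) * (t⁻¹ * s)⁻¹ = t⁻¹ * (s * (x * b) * s⁻¹) * t⁻¹⁻¹ by group, e1, e2]
    · refine ⟨t⁻¹, ?_⟩
      rw [← hxc', ← htc]
      conv_lhs => rw [← (hWfix hb).2]
      group
  let w : T → ℕ := fun y => if (y : G) ∈ W then 6 else if (y : G) ∈ M then 2 else 3
  let S : T → Finset T := fun y =>
    if (y : G) ∈ W then {y}
    else if (y : G) ∈ M then Finset.univ.filter (fun b : T => (b : G) ∈ M ∧ (b : G) ∉ W ∧ (y : G)⁻¹ * b ∈ V)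
    else {y, ⟨c * y, mul_mem R.hc y.2⟩}
  have hcomW : ∀ {a : G}, a ∈ M → ∀ {b : G}, b ∈ M → a⁻¹ * b = b * a⁻¹ := fun {a} ha {b} hb =>
    hMab _ (inv_mem ha) b hb
  have hnocen : ∀ {a : G}, a ∈ T → a ∉ M → ¬ ∀ u ∈ T, u * a = a * u := fun {a} ha haM h' =>
    haM (memM.mpr ⟨ha, (h' x hx).symm⟩)
  have hw : ∀ y, w y * (S y).card = 6 := fun y => by
    by_cases hyW : (y : G) ∈ W
    · simp only [w, S, if_pos hyW, Finset.card_singleton]
    by_cases hyM : (y : G) ∈ M
    · simp only [w, S, if_neg hyW, if_pos hyM]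
      obtain ⟨v, hv, hv1, b, hb, e⟩ := hdec _ hyM hyW
      have hbM : b ∈ M := (memZ.mp (memW.mp hb).1).1
      rw [show (6 : ℕ) = 2 * 3 from rfl]
      congr 1
      let f : G → G := fun u => u * b
      have hset : (Finset.univ.filter (fun z : T => (z : G) ∈ M ∧ (z : G) ∉ W ∧ (y : G)⁻¹ * z ∈ V)).map
          ⟨Subtype.val, Subtype.val_injective⟩ = ({c, x, c * x} : Finset G).map ⟨f, mul_left_injective b⟩ := by
        ext z
        simp only [Finset.mem_map, Finset.mem_filter, Finset.mem_univ, true_and, Function.Embedding.coeFn_mk, f]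
        constructor
        · rintro ⟨z, ⟨hzM, hzW, hzV⟩, rfl⟩
          refine ⟨(z : G) * b⁻¹, ?_, inv_mul_cancel_right _ _⟩
          have h1 : (z : G) * b⁻¹ = v * ((y : G)⁻¹ * z) := by
            rw [e, _root_.mul_inv_rev, ← mul_assoc, ← mul_assoc, hMab v (hVM hv) b⁻¹ (inv_mem hbM),
              mul_inv_cancel_right, hcomW hbM hzM]
          have h2 : (z : G) * b⁻¹ ∈ V := h1 ▸ mul_mem hv hzV
          rcases memV.mp h2 with h3 | h3 | h3 | h3
          · exact absurd (by rw [mul_inv_eq_one] at h3; rwa [h3]) hzW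
          all_goals simp [h3]
        · rintro ⟨u, hu, rfl⟩
          have huV : u ∈ V ∧ u ≠ 1 := by
            simp only [Finset.mem_insert, Finset.mem_singleton] at hu
            rcases hu with rfl | rfl | rfl
            exacts [⟨Or.inr (Or.inl rfl), R.hc1⟩, ⟨Or.inr (Or.inr (Or.inl rfl)), hx1⟩,
              ⟨Or.inr (Or.inr (Or.inr rfl)), hcxne.1⟩]
          have huM := hVM huV.1
          refine ⟨⟨u * b, mul_mem (memM.mp huM).1 (memM.mp hbM).1⟩, ⟨mul_mem huM hbM, fun h' => ?_, ?_⟩, rfl⟩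
          · exact huV.2 (hVW huV.1 (by simpa using mul_mem h' (inv_mem hb)))
          · show (y : G)⁻¹ * (u * b) ∈ V
            have : (y : G)⁻¹ * (u * b) = v⁻¹ * u := by
              rw [hMab u huM b hbM, e, _root_.mul_inv_rev, hcomW hbM (inv_mem (hVM hv))]
              group
            rw [this]
            exact mul_mem (inv_mem hv) huV.1
      have := congrArg Finset.card hset
      rw [Finset.card_map, Finset.card_map] at this
      rw [this, Finset.card_insert_of_notMem, Finset.card_pair hcxne.2.2.symm]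
      simp only [Finset.mem_insert, Finset.mem_singleton, not_or]
      exact ⟨hxc.symm, hcxne.2.1.symm⟩
    · simp only [w, S, if_neg hyW, if_neg hyM]
      rw [Finset.card_pair fun e => R.c_mul_ne _ (congrArg Subtype.val e).symm]
  have hS : ∀ y, ∀ z ∈ S y, cls P z = cls P y := fun y z hz => by
    by_cases hyW : (y : G) ∈ W
    · simp only [S, if_pos hyW, Finset.mem_singleton] at hz
      rw [hz]
    by_cases hyM : (y : G) ∈ M
    · simp only [S, if_neg hyW, if_pos hyM, Finset.mem_filter, Finset.mem_univ, true_and] at hz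
      obtain ⟨hzM, hzW, hzV⟩ := hz
      obtain ⟨v, hv, hv1, b, hb, e⟩ := hdec _ hyM hyW
      obtain ⟨v', hv', hv1', b', hb', e'⟩ := hdec _ hzM hzW
      have hbb : b' = b := by
        have h1 : b⁻¹ * b' ∈ W := mul_mem (inv_mem hb) hb'
        have hbM : b ∈ M := (memZ.mp (memW.mp hb).1).1
        have h2 : b⁻¹ * b' = v * ((y : G)⁻¹ * z) * v'⁻¹ := by
          have hb'M : b' ∈ M := (memZ.mp (memW.mp hb').1).1
          rw [e, e', _root_.mul_inv_rev, hcomW hbM (inv_mem (hVM hv)), hMab v' (hVM hv') b' hb'M]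
          group
        exact (inv_mul_eq_one.mp (hVW (h2 ▸ mul_mem (mul_mem hv hzV) (inv_mem hv')) h1)).symm
      subst hbb
      obtain ⟨g, hg⟩ := hgood hb hv hv1
      obtain ⟨g', hg'⟩ := hgood hb hv' hv1'
      refine (cls_eq_iff P z y).mpr ⟨g⁻¹ * g', ?_⟩
      rw [e, e', show g⁻¹ * g' * (v' * b') * (g⁻¹ * g')⁻¹ = g⁻¹ * (g' * (v' * b') * g'⁻¹) * g by group, hg', ← hg]
      group
    · simp only [S, if_neg hyW, if_neg hyM, Finset.mem_insert, Finset.mem_singleton] at hz
      rcases hz with rfl | rfl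
      · rfl
      · obtain ⟨a, ha, hay⟩ := R.noncentral y.2 (hnocen y.2 hyM)
        exact ((cls_eq_iff P y _).mpr ⟨a, hay⟩).symm
  have hall := (fibre_count (cls P) (cls_surjective P) w S 6 (by norm_num) hw hS).2.mp (by
    have hWM : W ≤ M := inf_le_left.trans inf_le_left
    have hfilt : ∀ K : Subgroup G, K ≤ T → (Finset.univ.filter fun z : T => (z : G) ∈ K).card = Nat.card K :=
      fun K hK => by
        rw [← Fintype.card_subtype, ← Nat.card_eq_fintype_card]
        exact Nat.card_congr ⟨fun z => ⟨z.1.1, z.2⟩, fun z => ⟨⟨z.1, hK z.2⟩, z.2⟩, fun _ => rfl, fun _ => rfl⟩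
    have hcT : Fintype.card T = Nat.card T := Nat.card_eq_fintype_card.symm
    have hsum : ∑ y, w y + Nat.card M = 3 * Nat.card T + 4 * Nat.card W := by
      rw [← hfilt M inf_le_left, ← hfilt W (hWM.trans inf_le_left), ← hcT, Finset.card_filter, Finset.card_filter,
        ← Finset.card_univ, Finset.card_eq_sum_ones, Finset.mul_sum, Finset.mul_sum, ← Finset.sum_add_distrib, ← Finset.sum_add_distrib]
      refine Finset.sum_congr rfl fun y _ => ?_
      by_cases hyW : (y : G) ∈ W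
      · simp [w, hyW, hWM hyW]
      · by_cases hyM : (y : G) ∈ M <;> simp [w, hyW, hyM]
    have hk : 2 * Nat.card (Classes2 G) = Nat.card T := R.hk
    convert (show ∑ y, w y = 6 * Nat.card (Classes2 G) by omega) using 2)
  refine ⟨V, hVM.trans inf_le_left, hV4, ?_, ?_, ?_, ?_⟩
  · intro v hv
    rcases memV.mp hv with rfl | rfl | rfl | rfl
    exacts [one_mul 1, R.hc2, hxx, by rw [mul_assoc, ← mul_assoc x c, hxc', mul_assoc c x, hxx, mul_one, R.hc2]]
  · have hcD : c ∈ commutator G := by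
      rw [show c = s * x * s⁻¹ * x⁻¹ by rw [hsx, mul_inv_cancel_right]]
      exact commutator_self_mem
    intro v hv
    have hxD : x ∈ commutator G := by
      rw [show x = h⁻¹ * c * h⁻¹⁻¹ by rw [← hhx]; group]
      exact (inferInstance : (commutator G).Normal).conj_mem c hcD h⁻¹
    rcases memV.mp hv with rfl | rfl | rfl | rfl
    exacts [one_mem _, hcD, hxD, mul_mem hcD hxD]
  · intro v hv v' hv' hv1 hv1'
    obtain ⟨g, hg⟩ := hgood (one_mem W) hv hv1
    obtain ⟨g', hg'⟩ := hgood (one_mem W) hv' hv1'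
    rw [mul_one] at hg hg'
    refine ⟨g'⁻¹ * g, ?_⟩
    rw [show g'⁻¹ * g * v * (g'⁻¹ * g)⁻¹ = g'⁻¹ * (g * v * g⁻¹) * g' by group, hg, mul_one]
    rw [mul_one] at hg'
    rw [← hg']
    group
  · intro a ha b hb g hg
    have := hall ⟨a, ha⟩ ⟨b, hb⟩ ((cls_eq_iff P ⟨a, ha⟩ ⟨b, hb⟩).mpr ⟨g, hg⟩).symm
    by_cases hyW : a ∈ W
    · simp only [S, hyW, if_true, Finset.mem_singleton, Subtype.mk.injEq] at this
      rw [this, inv_mul_cancel]; exact one_mem V
    by_cases hyM : a ∈ M
    · simp only [S, hyW, hyM, if_true, if_false, Finset.mem_filter, Finset.mem_univ, true_and] at this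
      exact this.2.2
    · simp only [S, hyW, hyM, if_false, Finset.mem_insert, Finset.mem_singleton, Subtype.mk.injEq] at this
      rcases this with e | e <;> rw [e]
      · rw [inv_mul_cancel]; exact one_mem V
      · rw [← mul_assoc, R.c_comm' (inv_mem ha), mul_assoc, inv_mul_cancel, mul_one]
        exact Or.inr (Or.inl rfl)

end Rigid

/-- The structure of the fusion, from the count of the classes of `2`-elements. -/
theorem exists_data (P : Sylow 2 G) (hO : pPrimeCore 2 G = ⊥)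
    (hk : 2 * Nat.card (Classes2 G) = Nat.card (P : Subgroup G)) : ∃ V, Data P V := by
  by_cases hab : IsMulCommutative (P : Subgroup G)
  · exact abelian_data P hk hab
  · obtain ⟨c, R⟩ := rigid_exists P hk hab
    exact R.nonabelian_data hO

end CfsgLib.TwoClassHalf
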