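import Cfsg.Agent.Lib.TwoClassHalf.Solvable
import Cfsg.Agent.Lib.TwoClassHalf.Nonabelian
import Cfsg.Agent.Lib.GW.Conseq.Basic
import Cfsg.Agent.Lib.MinNonCA.AbelianFinal

/-!
Groups with `|P| / 2` classes of `2`-elements, given the Gorenstein–Walter theorem.
-/

set_option autoImplicit false
set_option linter.unusedSectionVars false
set_option linter.style.haveILetI false

namespace CfsgLib.TwoClassHalf

open Cfsg Finset CfsgLib.GW CfsgLib.GWConseq
open scoped commutatorElement

universe u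

/-- `PSL(2,q)` with a four-group as Sylow `2`-subgroup has `q ≡ 3, 5 (mod 8)`. -/
theorem card_mod_eight {F : Type} [Field F] [Fintype F] (hodd : Odd (Fintype.card F))
    (h8 : ¬ 8 ∣ Nat.card (Matrix.ProjectiveSpecialLinearGroup (Fin 2) F)) :
    Fintype.card F % 8 = 3 ∨ Fintype.card F % 8 = 5 := by
  by_contra h
  refine h8 (CfsgLib.MinNonCA.sixteen_dvd_of_not hodd ?_)
  set q := Fintype.card F
  have h2 : q % 2 = 1 := Nat.odd_iff.mp hodd
  obtain ⟨t, ht⟩ : ∃ t, q = 8 * t + 1 ∨ q = 8 * t + 7 := ⟨q / 8, by omega⟩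
  rcases ht with e | e <;> rw [e]
  · refine ⟨t * (4 * t + 1), ?_⟩
    rw [show (8 * t + 1) ^ 2 = 16 * (t * (4 * t + 1)) + 1 by ring, Nat.add_sub_cancel]
  · refine ⟨4 * t * t + 7 * t + 3, ?_⟩
    rw [show (8 * t + 7) ^ 2 = 16 * (4 * t * t + 7 * t + 3) + 1 by ring, Nat.add_sub_cancel]

theorem exists_stable_derived (G : Type u) [Group G] [Finite G] :
    ∃ n, derivedSeries G (n + 1) = derivedSeries G n := by
  obtain ⟨n, hn⟩ : ∃ n, ∀ k, Nat.card (derivedSeries G n) ≤ Nat.card (derivedSeries G k) :=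
    ⟨Function.argmin (fun k => Nat.card (derivedSeries G k)), fun k => Function.argmin_le (fun k => Nat.card (derivedSeries G k)) k⟩
  exact ⟨n, Subgroup.eq_of_le_of_card_ge (derivedSeries_antitone G (Nat.le_succ n)) (hn (n + 1))⟩

variable {G : Type u} [Group G] [Finite G] {P : Sylow 2 G} {V : Subgroup G}

theorem Data.nonsolvable_case (hGW : GWThm.{u}) (d : Data P V) (hO : pPrimeCore 2 G = ⊥)
    (hG : ¬ Group.IsSolvable G) :
    ∃ S : Subgroup (G ⧸ Subgroup.center G), S.Normal ∧ IsSimpleGroup ↥S ∧ ¬ IsMulCommutative ↥S ∧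
      Subgroup.centralizer (S : Set (G ⧸ Subgroup.center G)) = ⊥ ∧
      ∃ (F : Type) (_ : Field F) (_ : Fintype F), 3 < Fintype.card F ∧ (Fintype.card F % 8 = 3 ∨ Fintype.card F % 8 = 5) ∧
        Nonempty (↥S ≃* Matrix.ProjectiveSpecialLinearGroup (Fin 2) F) := by
  classical
  haveI : Fact (Nat.Prime 2) := ⟨Nat.prime_two⟩
  obtain ⟨n, hn⟩ := exists_stable_derived G
  set X := derivedSeries G n with hX
  haveI : X.Normal := derivedSeries_normal G n
  have hXX : ⁅X, X⁆ = X := by rw [hX, ← derivedSeries_succ, hn]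
  have hXne : X ≠ ⊥ := fun e => hG ⟨⟨n, e⟩⟩
  have hXD : X ≤ commutator G := hXX ▸ Subgroup.commutator_mono le_top le_top
  haveI : Group.IsPerfect X := ⟨by
    apply Subgroup.map_injective X.subtype_injective
    rw [commutator_def, Subgroup.map_commutator, ← MonoidHom.range_eq_map, Subgroup.range_subtype, hXX]⟩
  have hVX := d.le_of_normal hO X hXD hXne
  have hS : ((P : Subgroup G) ⊓ X) = V :=
    le_antisymm (fun z hz => d.inf_commutator.le ⟨hz.1, hXD hz.2⟩) (le_inf d.le hVX)
  let S := CfsgLib.sylowInfNormal P X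
  have hcardS : Nat.card (S : Subgroup X) = 4 := by
    rw [CfsgLib.coe_sylowInfNormal, ← d.card]
    refine Nat.card_congr ⟨fun z => ⟨(z : G), hS.le ⟨Subgroup.mem_subgroupOf.mp z.2, z.1.2⟩⟩,
      fun v => ⟨⟨v, hVX v.2⟩, Subgroup.mem_subgroupOf.mpr (d.le v.2)⟩, fun _ => rfl, fun _ => rfl⟩
  have hsqS : ∀ z : (S : Subgroup X), z ^ 2 = 1 := fun z => Subtype.ext (Subtype.ext (by
    have h : ((z : X) : G) ∈ V := hS.le ⟨Subgroup.mem_subgroupOf.mp z.2, z.1.2⟩
    show ((z : X) : G) ^ 2 = 1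
    rw [pow_two]; exact d.sq _ h))
  haveI : IsKleinFour (S : Subgroup X) := ⟨hcardS, by
    refine (Nat.prime_two.eq_one_or_self_of_dvd _ (Monoid.exponent_dvd_of_forall_pow_eq_one hsqS)).resolve_left
      fun h => ?_
    haveI : Subsingleton (S : Subgroup X) := Monoid.exp_eq_one_iff.mp h
    rw [Nat.card_of_subsingleton (1 : (S : Subgroup X))] at hcardS
    omega⟩
  have hX : GWDihedral X := ⟨S, 2, le_rfl, IsKleinFour.nonempty_mulEquiv⟩
  have hOX : oddCore X = ⊥ := by
    have h := CfsgLib.map_pPrimeCore_le 2 X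
    rw [hO, le_bot_iff, Subgroup.map_eq_bot_iff_of_injective _ X.subtype_injective] at h
    exact h
  obtain ⟨hXs, hXnc⟩ := isSimple_of_core_eq_bot hX hOX
  have h8 : ¬ 8 ∣ Nat.card X := fun h => S.not_dvd_index (by
    have h1 := (S : Subgroup X).card_mul_index
    rw [hcardS] at h1
    omega)
  have hmodel := hGW.model hX hOX
  rcases hmodel with ⟨F, hF, hFt, hodd, h3, ⟨e⟩⟩ | ⟨⟨e⟩⟩
  swap
  · refine absurd ?_ h8
    rw [Nat.card_congr e.toEquiv, nat_card_alternatingGroup, Nat.card_eq_fintype_card, Fintype.card_fin]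
    decide
  have hmod := card_mod_eight hodd (by rw [← Nat.card_congr e.toEquiv]; exact h8)
  -- the centralizer of `X` is the centre
  set C := Subgroup.centralizer (X : Set G)
  have hCX : ∀ z : G, z ∈ C → z ∈ X → z = (1 : G) := fun z hzC hzX => by
    have hzc : (⟨z, hzX⟩ : X) ∈ Subgroup.center X := Subgroup.mem_center_iff.mpr fun a =>
      Subtype.ext (Subgroup.mem_centralizer_iff.mp hzC a a.2)
    rcases hXs.eq_bot_or_eq_top_of_normal _ (inferInstance : (Subgroup.center X).Normal) with h | h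
    · rw [h, Subgroup.mem_bot] at hzc
      exact congrArg Subtype.val hzc
    · have htop : ∀ a b : X, a * b = b * a := fun a b => by
        have hb : b ∈ Subgroup.center X := by rw [h]; exact Subgroup.mem_top b
        exact Subgroup.mem_center_iff.mp hb a
      exact absurd ⟨⟨htop⟩⟩ hXnc
  have hCD : C ⊓ commutator G = ⊥ := by
    by_contra hne
    haveI : (C ⊓ commutator G).Normal := inferInstance
    have hle := d.le_of_normal hO _ inf_le_right hne
    have h2 : ∀ v ∈ V, v = 1 := fun v hv => hCX v (hle hv).1 (hVX hv)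
    have := d.card
    rw [(Subgroup.eq_bot_iff_forall V).mpr h2, Subgroup.card_bot] at this
    omega
  have hCZ : C ≤ Subgroup.center G := fun z hz => Subgroup.mem_center_iff.mpr fun g => by
    have h : g * z * g⁻¹ * z⁻¹ ∈ C ⊓ commutator G := Subgroup.mem_inf.mpr
      ⟨mul_mem ((inferInstance : C.Normal).conj_mem z hz g) (inv_mem hz), commutator_self_mem⟩
    rw [hCD, Subgroup.mem_bot, mul_inv_eq_one, mul_inv_eq_iff_eq_mul] at h
    exact h
  set mk := QuotientGroup.mk' (Subgroup.center G)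
  have hinj : Function.Injective (mk.comp X.subtype) := (injective_iff_map_eq_one _).mpr fun z hz =>
    Subtype.ext (hCX z (Subgroup.center_le_centralizer _ ((QuotientGroup.eq_one_iff _).mp hz)) z.2)
  let E : X ≃* X.map mk := (MonoidHom.ofInjective hinj).trans (MulEquiv.subgroupCongr (by
    rw [MonoidHom.range_comp, Subgroup.range_subtype]))
  haveI := hXs
  haveI : Nontrivial (X.map mk) := E.symm.surjective.nontrivial
  refine ⟨X.map mk, Subgroup.Normal.map inferInstance mk (QuotientGroup.mk'_surjective _),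
    IsSimpleGroup.isSimpleGroup_of_surjective E.toMonoidHom E.surjective, fun h => hXnc ⟨⟨fun a b => ?_⟩⟩, ?_,
    F, hF, hFt, h3, hmod, ⟨E.symm.trans e⟩⟩
  · exact E.injective (by rw [map_mul, map_mul]; exact h.1.comm _ _)
  · refine (Subgroup.eq_bot_iff_forall _).mpr fun q hq => ?_
    obtain ⟨g, rfl⟩ := QuotientGroup.mk'_surjective _ q
    refine (QuotientGroup.eq_one_iff g).mpr (hCZ (Subgroup.mem_centralizer_iff.mpr fun a ha => ?_))
    have h1 : mk a * mk g = mk g * mk a := Subgroup.mem_centralizer_iff.mp hq _ ⟨a, ha, rfl⟩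
    have h2 : ⟨a * g * a⁻¹ * g⁻¹, ?_⟩ = (1 : X) := hinj (by
      show mk (a * g * a⁻¹ * g⁻¹) = (mk.comp X.subtype) 1
      rw [map_one, map_mul, map_mul, map_mul, map_inv, map_inv, h1]
      group)
    · have h3' : a * g * a⁻¹ * g⁻¹ = 1 := congrArg Subtype.val h2
      rwa [mul_inv_eq_one, mul_inv_eq_iff_eq_mul] at h3'
    · rw [show a * g * a⁻¹ * g⁻¹ = a * (g * a⁻¹ * g⁻¹) by group]
      exact mul_mem ha ((inferInstance : X.Normal).conj_mem _ (inv_mem ha) g)

/-- The theorem on groups whose number of classes of `2`-elements is half the order of a Sylow `2`-subgroup. -/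
theorem main (hGW : GWThm.{u}) (P : Sylow 2 G) (hO : pPrimeCore 2 G = ⊥)
    (hk : 2 * Nat.card (Classes2 G) = Nat.card (P : Subgroup G)) :
    Nonempty (G ⧸ Subgroup.center G ≃* ↥(alternatingGroup (Fin 4))) ∨ Nonempty (G ⧸ Subgroup.center G ≃* Equiv.Perm (Fin 4)) ∨
    ∃ S : Subgroup (G ⧸ Subgroup.center G), S.Normal ∧ IsSimpleGroup ↥S ∧ ¬ IsMulCommutative ↥S ∧
      Subgroup.centralizer (S : Set (G ⧸ Subgroup.center G)) = ⊥ ∧
      ∃ (F : Type) (_ : Field F) (_ : Fintype F), 3 < Fintype.card F ∧ (Fintype.card F % 8 = 3 ∨ Fintype.card F % 8 = 5) ∧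
        Nonempty (↥S ≃* Matrix.ProjectiveSpecialLinearGroup (Fin 2) F) := by
  obtain ⟨V, d⟩ := exists_data P hO hk
  by_cases hG : Group.IsSolvable G
  · haveI := d.normal_of_solvable hO hG
    exact (d.solvable_case hO).imp_right Or.inl
  · exact Or.inr (Or.inr (d.nonsolvable_case hGW hO hG))

end CfsgLib.TwoClassHalf
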