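import Cfsg.Agent.Lib.TwoClassHalf.Abelian

/-!
A non-abelian Sylow `2`-subgroup: the commutator subgroup has order two, the normalizer induces inner automorphisms.
-/

set_option autoImplicit false
set_option linter.unusedSectionVars false
set_option linter.style.haveILetI false

namespace CfsgLib.TwoClassHalf

open Cfsg Finset
open scoped commutatorElement

universe u

variable {G : Type u} [Group G] [Finite G]

/-- The setting of a non-abelian Sylow subgroup: `c` generates the commutator subgroup. -/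
structure Rigid (P : Sylow 2 G) (c : G) : Prop where
  hk : 2 * Nat.card (Classes2 G) = Nat.card (P : Subgroup G)
  hc : c ∈ (P : Subgroup G)
  hc1 : c ≠ 1
  hc2 : c * c = 1
  comm : ∀ a ∈ (P : Subgroup G), ∀ b ∈ (P : Subgroup G), a * b * a⁻¹ = b ∨ a * b * a⁻¹ = c * b
  nonab : ∃ a ∈ (P : Subgroup G), ∃ b ∈ (P : Subgroup G), a * b * a⁻¹ = c * b
  norm : ∀ n ∈ Subgroup.normalizer ((P : Subgroup G) : Set G), n * c * n⁻¹ = c

theorem rigid_exists (P : Sylow 2 G) (hk : 2 * Nat.card (Classes2 G) = Nat.card (P : Subgroup G))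
    (hab : ¬ IsMulCommutative (P : Subgroup G)) : ∃ c, Rigid P c := by
  haveI : Fact (Nat.Prime 2) := ⟨Nat.prime_two⟩
  set T := (P : Subgroup G)
  have h1 := four_mul_card_conjClasses_le (G := T)
  have h2 : Nat.card (Classes2 G) ≤ Nat.card (ConjClasses T) := card_classes2_le P
  have h3 := (commutator T).card_mul_index
  have h0 : 0 < (commutator T).index := Nat.pos_of_ne_zero Subgroup.index_ne_zero_of_finite
  have hle : Nat.card (commutator T) ≤ 3 := by
    refine Nat.le_of_mul_le_mul_right ?_ h0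
    rw [h3]
    show Nat.card T ≤ 3 * (commutator T).index
    omega
  have hne : commutator T ≠ ⊥ := fun e => hab ⟨⟨fun a b => by
    have : ⁅a, b⁆ ∈ commutator T := Subgroup.commutator_mem_commutator (Subgroup.mem_top a) (Subgroup.mem_top b)
    rw [e, Subgroup.mem_bot, commutatorElement_eq_one_iff_mul_comm] at this
    exact this⟩⟩
  obtain ⟨k, hk2⟩ := IsPGroup.iff_card.mp (P.2.to_subgroup (commutator T))
  have hcard : Nat.card (commutator T) = 2 := by
    have h1' : 1 < Nat.card (commutator T) := (Subgroup.one_lt_card_iff_ne_bot _).mpr hne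
    rcases k with _ | _ | k
    · exact absurd h1' (by rw [hk2]; norm_num)
    · rw [hk2, pow_one]
    · have : 4 ≤ 2 ^ (k + 1 + 1) := le_trans (by norm_num) (Nat.pow_le_pow_right (by norm_num) (by omega : 2 ≤ k + 1 + 1))
      exact absurd hle (by rw [hk2]; omega)
  obtain ⟨c, hcm, hc1⟩ := (Subgroup.nontrivial_iff_exists_ne_one _).mp ((Subgroup.nontrivial_iff_ne_bot _).mpr hne)
  have hcc : c * c = 1 := by
    have := pow_card_eq_one' (x := (⟨c, hcm⟩ : commutator T))
    rw [hcard, pow_two] at this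
    exact congrArg Subtype.val this
  have hmem : ∀ d ∈ commutator T, d = 1 ∨ d = c := fun d hd => by
    classical
    by_contra h
    push Not at h
    have hs : (({1, c, d} : Finset T) : Set T) ⊆ (commutator T : Set T) := by
      intro a ha
      simp only [Finset.coe_insert, Finset.coe_singleton, Set.mem_insert_iff, Set.mem_singleton_iff] at ha
      rcases ha with rfl | rfl | rfl
      exacts [one_mem _, hcm, hd]
    have := Set.ncard_le_ncard hs
    rw [Set.ncard_coe_finset, ← Nat.card_coe_set_eq, Finset.card_insert_of_notMem, Finset.card_pair h.2.symm] at this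
    · exact absurd this (by rw [show Nat.card ↥((commutator T : Set T)) = 2 from hcard]; norm_num)
    · simp only [Finset.mem_insert, Finset.mem_singleton, not_or]
      exact ⟨hc1.symm, h.1.symm⟩
  have hcomm : ∀ a b : T, a * b * a⁻¹ = b ∨ a * b * a⁻¹ = c * b := fun a b =>
    (hmem _ (Subgroup.commutator_mem_commutator (Subgroup.mem_top a) (Subgroup.mem_top b))).imp
      (fun e => by rw [commutatorElement_def, mul_inv_eq_one] at e; exact e)
      (fun e => by rw [commutatorElement_def, mul_inv_eq_iff_eq_mul] at e; exact e)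
  refine ⟨c, hk, c.2, fun e => hc1 (Subtype.ext e), congrArg Subtype.val hcc, fun a ha b hb =>
    (hcomm ⟨a, ha⟩ ⟨b, hb⟩).imp (congrArg Subtype.val) (congrArg Subtype.val), ?_, ?_⟩
  · by_contra h
    push Not at h
    exact hab ⟨⟨fun a b => (hcomm a b).elim (fun e => mul_inv_eq_iff_eq_mul.mp e)
      fun e => absurd (congrArg Subtype.val e) (h a a.2 b b.2)⟩⟩
  · intro n hn
    let f : T →* T :=
      MonoidHom.mk' (fun x => ⟨n * (x : G) * n⁻¹, (Subgroup.mem_normalizer_iff.mp hn _).mp x.2⟩) fun a b =>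
        Subtype.ext (by
          show n * ((a : G) * b) * n⁻¹ = n * a * n⁻¹ * (n * b * n⁻¹)
          group)
    have hfc : f c ∈ commutator T := by
      have := Subgroup.map_commutator ⊤ ⊤ f
      have h5 : f c ∈ (commutator T).map f := ⟨c, hcm, rfl⟩
      rw [commutator_def, this] at h5
      exact Subgroup.commutator_mono le_top le_top h5
    rcases hmem _ hfc with e | e
    · exact absurd (congrArg Subtype.val e) (fun e => hc1 (Subtype.ext (by simpa [f] using e)))
    · exact congrArg Subtype.val e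

namespace Rigid

variable {P : Sylow 2 G} {c : G} (R : Rigid P c)
include R

theorem c_comm {a : G} (ha : a ∈ (P : Subgroup G)) : a * c * a⁻¹ = c := R.norm a (Subgroup.le_normalizer ha)

theorem c_mul_c (z : G) : c * (c * z) = z := by rw [← mul_assoc, R.hc2, one_mul]

theorem c_mul_ne (z : G) : c * z ≠ z := fun e => R.hc1 (mul_eq_right.mp e)

theorem c_comm' {a : G} (ha : a ∈ (P : Subgroup G)) : a * c = c * a := mul_inv_eq_iff_eq_mul.mp (R.c_comm ha)

theorem noncentral {y : G} (hy : y ∈ (P : Subgroup G)) (h : ¬ ∀ a ∈ (P : Subgroup G), a * y = y * a) :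
    ∃ a ∈ (P : Subgroup G), a * y * a⁻¹ = c * y := by
  push Not at h
  obtain ⟨a, ha, hay⟩ := h
  exact ⟨a, ha, (R.comm a ha y hy).resolve_left fun e => hay (mul_inv_eq_iff_eq_mul.mp e)⟩

theorem center_index : 4 * Nat.card {z : (P : Subgroup G) // ∀ a ∈ (P : Subgroup G), a * (z : G) = z * a} ≤
    Nat.card (P : Subgroup G) := by
  haveI : Fact (Nat.Prime 2) := ⟨Nat.prime_two⟩
  set T := (P : Subgroup G)
  have e : Nat.card {z : T // ∀ a ∈ T, a * (z : G) = z * a} = Nat.card (Subgroup.center T) :=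
    Nat.card_congr (Equiv.subtypeEquivRight fun z => by
      rw [Subgroup.mem_center_iff]
      exact ⟨fun h a => Subtype.ext (h a a.2), fun h a ha => congrArg Subtype.val (h ⟨a, ha⟩)⟩)
  rw [e, ← (Subgroup.center T).card_mul_index, mul_comm]
  refine Nat.mul_le_mul_left _ ?_
  obtain ⟨k, hk⟩ := P.2.index (Subgroup.center T)
  rw [hk]
  rcases k with _ | _ | k
  · exfalso
    rw [pow_zero, Subgroup.index_eq_one] at hk
    obtain ⟨a, ha, b, hb, hab⟩ := R.nonab
    have : (⟨b, hb⟩ : T) ∈ Subgroup.center T := hk ▸ Subgroup.mem_top _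
    have h1 := congrArg Subtype.val (Subgroup.mem_center_iff.mp this ⟨a, ha⟩)
    exact R.c_mul_ne b (hab.symm.trans (mul_inv_eq_iff_eq_mul.mpr h1))
  · exfalso
    haveI : IsCyclic (T ⧸ Subgroup.center T) := isCyclic_of_prime_card (p := 2) (by rw [← Subgroup.index, hk, pow_one])
    obtain ⟨a, ha, b, hb, hab⟩ := R.nonab
    have h1 := congrArg Subtype.val (commutative_of_cyclic_center_quotient (QuotientGroup.mk' (Subgroup.center T))
      (by rw [QuotientGroup.ker_mk']) (⟨a, ha⟩ : T) ⟨b, hb⟩)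
    exact R.c_mul_ne b (hab.symm.trans (mul_inv_eq_iff_eq_mul.mpr h1))
  · calc 4 = 2 ^ 2 := rfl
      _ ≤ 2 ^ (k + 1 + 1) := Nat.pow_le_pow_right (by norm_num) (by omega)

theorem odd_centralizes {m : G} (hm : m ∈ Subgroup.normalizer ((P : Subgroup G) : Set G)) (hmo : Odd (orderOf m))
    {z : G} (hz : z ∈ (P : Subgroup G)) : m * z * m⁻¹ = z := by
  classical
  haveI : Fact (Nat.Prime 2) := ⟨Nat.prime_two⟩
  letI : Fintype G := Fintype.ofFinite G
  set T := (P : Subgroup G)
  have hmP : ∀ {z : G}, z ∈ T → m * z * m⁻¹ ∈ T := fun hz => (Subgroup.mem_normalizer_iff.mp hm _).mp hz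
  have hmc := R.norm m hm
  have hm2c : m * m * c * (m * m)⁻¹ = c := R.norm _ (mul_mem hm hm)
  -- fixed modulo `c`
  let St : G → Prop := fun y => m * y * m⁻¹ = y ∨ m * y * m⁻¹ = c * y
  have hback : ∀ y : G, (m * m * y * (m * m)⁻¹ = y ∨ m * m * y * (m * m)⁻¹ = c * y) → St y := by
    intro y hy
    let K : Subgroup G :=
      { carrier := {g | g * c * g⁻¹ = c ∧ (g * y * g⁻¹ = y ∨ g * y * g⁻¹ = c * y)}
        one_mem' := by simp
        mul_mem' := by
          rintro a b ⟨ac, ha⟩ ⟨bc, hb⟩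
          have e : a * b * y * (a * b)⁻¹ = a * (b * y * b⁻¹) * a⁻¹ := by group
          refine ⟨by rw [show a * b * c * (a * b)⁻¹ = a * (b * c * b⁻¹) * a⁻¹ by group, bc, ac], ?_⟩
          rcases ha with ha | ha <;> rcases hb with hb | hb <;> rw [e, hb]
          · exact Or.inl ha
          · exact Or.inr (by rw [show a * (c * y) * a⁻¹ = a * c * a⁻¹ * (a * y * a⁻¹) by group, ac, ha])
          · exact Or.inr ha
          · exact Or.inl (by rw [show a * (c * y) * a⁻¹ = a * c * a⁻¹ * (a * y * a⁻¹) by group, ac, ha, R.c_mul_c])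
        inv_mem' := by
          rintro a ⟨ac, ha⟩
          have ac' : a⁻¹ * c * a⁻¹⁻¹ = c := by
            conv_lhs => rw [← ac]
            group
          refine ⟨ac', ?_⟩
          rcases ha with ha | ha
          · exact Or.inl (by rw [show a⁻¹ * y * a⁻¹⁻¹ = a⁻¹ * (a * y * a⁻¹) * a by rw [ha, inv_inv]]; group)
          · refine Or.inr ?_
            calc a⁻¹ * y * a⁻¹⁻¹ = a⁻¹ * (c * (a * y * a⁻¹)) * a⁻¹⁻¹ := by rw [ha, R.c_mul_c]
              _ = a⁻¹ * c * a⁻¹⁻¹ * y := by group
              _ = c * y := by rw [ac'] }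
    exact (mem_of_sq_mem (K := K) hmo ⟨hm2c, hy⟩).2
  by_contra hz0
  have hzF : ∃ y ∈ T, ¬ St y := by
    refine ⟨z, hz, ?_⟩
    rintro (e | e)
    · exact hz0 e
    · refine hz0 (conj_eq_of_sq hmo ?_)
      rw [show m * m * z * (m * m)⁻¹ = m * (m * z * m⁻¹) * m⁻¹ by group, e,
        show m * (c * z) * m⁻¹ = m * c * m⁻¹ * (m * z * m⁻¹) by group, hmc, e, R.c_mul_c]
  let F : Subgroup G :=
    { carrier := {y | y ∈ T ∧ St y}
      one_mem' := ⟨one_mem T, Or.inl (by simp)⟩
      mul_mem' := by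
        rintro a b ⟨ha, ha'⟩ ⟨hb, hb'⟩
        have e : m * (a * b) * m⁻¹ = m * a * m⁻¹ * (m * b * m⁻¹) := by group
        have hac : a * c = c * a := R.c_comm' ha
        refine ⟨mul_mem ha hb, ?_⟩
        rcases ha' with ha' | ha' <;> rcases hb' with hb' | hb' <;> simp only [St] <;> rw [e, ha', hb']
        · exact Or.inl rfl
        · exact Or.inr (by rw [← mul_assoc, hac, mul_assoc])
        · exact Or.inr (mul_assoc _ _ _)
        · exact Or.inl (by rw [mul_assoc, ← mul_assoc a, hac, mul_assoc, R.c_mul_c])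
      inv_mem' := by
        rintro a ⟨ha, ha'⟩
        have e : m * a⁻¹ * m⁻¹ = (m * a * m⁻¹)⁻¹ := by group
        refine ⟨inv_mem ha, ?_⟩
        rcases ha' with ha' | ha' <;> simp only [St] <;> rw [e, ha']
        · exact Or.inl rfl
        · exact Or.inr (by
            rw [_root_.mul_inv_rev, inv_eq_of_mul_eq_one_right R.hc2, R.c_comm' (inv_mem ha)]) }
  have hFle : F ≤ T := fun y hy => hy.1
  have hF2 : 2 * Nat.card F ≤ Nat.card T := by
    obtain ⟨k, hk⟩ := Subgroup.card_dvd_of_le hFle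
    rw [hk, mul_comm]
    refine Nat.mul_le_mul_left _ ?_
    rcases k with _ | _ | k
    · exact absurd (hk.trans (mul_zero _)) Nat.card_pos.ne'
    · obtain ⟨y, hy, hyS⟩ := hzF
      rw [zero_add, mul_one] at hk
      exact absurd (Subgroup.eq_of_le_of_card_ge hFle hk.le ▸ hy : y ∈ F) fun h => hyS h.2
    · omega
  -- weights
  let cen : T → Prop := fun y => ∀ a ∈ T, a * (y : G) = y * a
  let cm : T → T := fun y => ⟨c * y, mul_mem R.hc y.2⟩
  let m1 : T → T := fun y => ⟨m * y * m⁻¹, hmP y.2⟩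
  let w : T → ℕ := fun y => if St y then (if cen y then 6 else 3) else (if cen y then 2 else 1)
  let S : T → Finset T := fun y =>
    if St y then (if cen y then {y} else {y, cm y})
    else (if cen y then {y, m1 y, m1 (m1 y)} else {y, m1 y, m1 (m1 y), cm y, cm (m1 y), cm (m1 (m1 y))})
  have hclm : ∀ y, cls P (m1 y) = cls P y := fun y => ((cls_eq_iff P y (m1 y)).mpr ⟨m, rfl⟩).symm
  have hclc : ∀ y, ¬ cen y → cls P (cm y) = cls P y := fun y hy => by
    obtain ⟨a, ha, hay⟩ := R.noncentral y.2 hy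
    exact ((cls_eq_iff P y (cm y)).mpr ⟨a, hay⟩).symm
  have hcen1 : ∀ y, cen (m1 y) → cen y := fun y hy a ha => by
    have h1 := hy (m * a * m⁻¹) (hmP ha)
    simp only [m1] at h1
    refine mul_left_cancel (a := m) (mul_right_cancel (b := m⁻¹) ?_)
    calc m * (a * y) * m⁻¹ = m * a * m⁻¹ * (m * y * m⁻¹) := by group
      _ = m * y * m⁻¹ * (m * a * m⁻¹) := h1
      _ = m * (y * a) * m⁻¹ := by group
  have hne : ∀ y : T, ¬ St y → (m * (y : G) * m⁻¹ ≠ y ∧ m * (y : G) * m⁻¹ ≠ c * y) ∧
      (m * (m * (y : G) * m⁻¹) * m⁻¹ ≠ y ∧ m * (m * (y : G) * m⁻¹) * m⁻¹ ≠ c * y) := fun y hy => by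
    refine ⟨⟨fun e => hy (Or.inl e), fun e => hy (Or.inr e)⟩, fun e => hy (hback y (Or.inl ?_)),
      fun e => hy (hback y (Or.inr ?_))⟩ <;> refine Eq.trans ?_ e <;> group
  have hcm : ∀ a : G, m * (c * a) * m⁻¹ = c * (m * a * m⁻¹) := fun a => by
    rw [show m * (c * a) * m⁻¹ = m * c * m⁻¹ * (m * a * m⁻¹) by group, hmc]
  have hw : ∀ y, w y * (S y).card = 6 := fun y => by
    by_cases hs : St y <;> by_cases hcn : cen y
    · simp only [w, S, if_pos hs, if_pos hcn, Finset.card_singleton]
    · simp only [w, S, if_pos hs, if_neg hcn]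
      rw [Finset.card_pair]
      exact fun e => R.c_mul_ne _ (congrArg Subtype.val e).symm
    · obtain ⟨⟨h1, -⟩, h2, -⟩ := hne y hs
      simp only [w, S, if_neg hs, if_pos hcn]
      rw [Finset.card_insert_of_notMem, Finset.card_pair]
      · exact fun e => h1 (mul_left_cancel (mul_right_cancel (congrArg Subtype.val e))).symm
      · simp only [Finset.mem_insert, Finset.mem_singleton, not_or]
        exact ⟨fun e => h1 (congrArg Subtype.val e).symm, fun e => h2 (congrArg Subtype.val e).symm⟩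
    · obtain ⟨⟨h1, h1'⟩, h2, h2'⟩ := hne y hs
      have h3 : m * (m * (y : G) * m⁻¹) * m⁻¹ ≠ m * y * m⁻¹ := fun e => h1 (mul_left_cancel (mul_right_cancel e))
      have h3' : m * (m * (y : G) * m⁻¹) * m⁻¹ ≠ c * (m * y * m⁻¹) := fun e =>
        h1' (mul_left_cancel (mul_right_cancel (e.trans (hcm _).symm)))
      have h0 := R.c_mul_ne
      simp only [w, S, if_neg hs, if_neg hcn, one_mul]
      rw [Finset.card_insert_of_notMem, Finset.card_insert_of_notMem, Finset.card_insert_of_notMem,
        Finset.card_insert_of_notMem, Finset.card_pair]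
      · exact fun e => h3 (mul_left_cancel (congrArg Subtype.val e)).symm
      all_goals
        simp only [Finset.mem_insert, Finset.mem_singleton, not_or, m1, cm, Subtype.ext_iff]
      · exact ⟨fun e => h1 (mul_left_cancel e).symm, fun e => h2 (mul_left_cancel e).symm⟩
      · refine ⟨fun e => h2' e, fun e => h3' e, fun e => h0 _ e.symm⟩
      · refine ⟨fun e => h3 e.symm, fun e => h1' e, fun e => h0 _ e.symm, fun e => h3' ?_⟩
        rw [← R.c_mul_c (m * (m * (y : G) * m⁻¹) * m⁻¹), ← e]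
      · refine ⟨fun e => h1 e.symm, fun e => h2 e.symm, fun e => h0 _ e.symm, fun e => h1' ?_, fun e => h2' ?_⟩
        · conv_rhs => rw [e, R.c_mul_c]
        · conv_rhs => rw [e, R.c_mul_c]
  have hS : ∀ y, ∀ b ∈ S y, cls P b = cls P y := fun y b hb => by
    by_cases hs : St y <;> by_cases hcn : cen y <;>
      simp only [S, hs, hcn, if_true, if_false, Finset.mem_insert, Finset.mem_singleton] at hb
    · rw [hb]
    · rcases hb with rfl | rfl
      exacts [rfl, hclc y hcn]
    · rcases hb with rfl | rfl | rfl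
      exacts [rfl, hclm y, by rw [hclm, hclm]]
    · have h1 : ¬ cen (m1 y) := fun h => hcn (hcen1 y h)
      have h2 : ¬ cen (m1 (m1 y)) := fun h => h1 (hcen1 _ h)
      rcases hb with rfl | rfl | rfl | rfl | rfl | rfl
      exacts [rfl, hclm y, by rw [hclm, hclm], hclc y hcn, by rw [hclc _ h1, hclm],
        by rw [hclc _ h2, hclm, hclm]]
  have hle := (fibre_count (cls P) (cls_surjective P) w S 6 (by norm_num) hw hS).1
  have hsum : ∑ y, w y ≤ Nat.card T + 2 * Nat.card F + 3 * Nat.card {y : T // cen y} := by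
    calc ∑ y, w y ≤ ∑ y : T, (1 + (if St y then 2 else 0) + if cen y then 3 else 0) :=
          Finset.sum_le_sum fun y _ => by by_cases hs : St y <;> by_cases hcn : cen y <;> simp [w, hs, hcn]
      _ ≤ _ := le_of_eq (by
        rw [Finset.sum_add_distrib, Finset.sum_add_distrib, Finset.sum_ite, Finset.sum_ite, Finset.sum_const_zero,
          Finset.sum_const_zero, Finset.sum_const, Finset.sum_const, Finset.sum_const]
        simp only [smul_eq_mul, add_zero, mul_one, Nat.card_eq_fintype_card, Finset.card_univ]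
        rw [Fintype.card_subtype (fun y : T => cen y), show Fintype.card F = (Finset.univ.filter fun y : T => St y).card by
          rw [← Fintype.card_subtype]
          exact Fintype.card_congr ⟨fun y => ⟨⟨y, y.2.1⟩, y.2.2⟩, fun y => ⟨(y.1 : G), y.1.2, y.2⟩,
            fun _ => rfl, fun _ => rfl⟩]
        ring)
  have hci : 4 * Nat.card {y : T // cen y} ≤ Nat.card T := R.center_index
  have hk : 2 * Nat.card (Classes2 G) = Nat.card T := R.hk
  have hp : 0 < Nat.card T := Nat.card_pos
  have h := hle.trans ((le_of_eq (by congr 1)).trans hsum)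
  omega

/-- The normalizer of `P` induces inner automorphisms on it. -/
theorem normalizer_conj {n : G} (hn : n ∈ Subgroup.normalizer ((P : Subgroup G) : Set G)) :
    ∃ u ∈ (P : Subgroup G), ∀ z ∈ (P : Subgroup G), n * z * n⁻¹ = u * z * u⁻¹ := by
  obtain ⟨u, hu, m, hm, hmo, rfl⟩ := normalizer_split P hn
  exact ⟨u, hu, fun z hz => by
    rw [show u * m * z * (u * m)⁻¹ = u * (m * z * m⁻¹) * u⁻¹ by group, R.odd_centralizes hm hmo hz]⟩

/-- Conjugate normal subsets of `P` are equal. -/
theorem normal_subsets_eq (X Y : Set G) (hXP : X ⊆ (P : Subgroup G))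
    (hX : ∀ a ∈ (P : Subgroup G), ∀ z ∈ X, a * z * a⁻¹ ∈ X)
    (hY : ∀ a ∈ (P : Subgroup G), ∀ z ∈ Y, a * z * a⁻¹ ∈ Y) {g : G}
    (hg : (fun z => g * z * g⁻¹) '' X = Y) : Y = X := by
  haveI : Fact (Nat.Prime 2) := ⟨Nat.prime_two⟩
  obtain ⟨n, hn, hne⟩ := CfsgLib.Transfer.exists_normalizer_conj_of_normal_subsets P X Y hX hY hg
  obtain ⟨u, hu, h⟩ := R.normalizer_conj hn
  rw [← hne]
  ext z
  constructor
  · rintro ⟨x, hx, rfl⟩
    show n * x * n⁻¹ ∈ X
    rw [h x (hXP hx)]
    exact hX u hu x hx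
  · intro hz
    have h1 := hX u⁻¹ (inv_mem hu) z hz
    refine ⟨_, h1, ?_⟩
    show n * _ * n⁻¹ = z
    rw [h _ (hXP h1)]
    group

/-- Conjugate central elements of `P` are equal. -/
theorem central_eq {x y : G} (hxP : x ∈ (P : Subgroup G)) (hx : ∀ a ∈ (P : Subgroup G), a * x = x * a)
    (hy : ∀ a ∈ (P : Subgroup G), a * y = y * a) {g : G} (hg : g * x * g⁻¹ = y) : y = x :=
  Set.singleton_eq_singleton_iff.mp (R.normal_subsets_eq {x} {y} (Set.singleton_subset_iff.mpr hxP)
    (fun a ha z hz => by rw [Set.mem_singleton_iff] at hz ⊢; rw [hz, hx a ha, mul_inv_cancel_right])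
    (fun a ha z hz => by rw [Set.mem_singleton_iff] at hz ⊢; rw [hz, hy a ha, mul_inv_cancel_right])
    (g := g) (by simp [hg]))

end Rigid

end CfsgLib.TwoClassHalf
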