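import Cfsg.Agent.Lib.TwoClassHalf.Abelian
import Cfsg.Agent.Lib.SylowExtra
import Mathlib.GroupTheory.SpecificGroups.Alternating

/-!
The solvable case: `G / Z(G)` is `A₄` or `S₄`.
-/

set_option autoImplicit false
set_option linter.unusedSectionVars false
set_option linter.style.haveILetI false

namespace CfsgLib.TwoClassHalf

open Cfsg Finset
open scoped commutatorElement

universe u

variable {G : Type u} [Group G] [Finite G] {P : Sylow 2 G} {V : Subgroup G}

theorem Data.inf_commutator (d : Data P V) : (P : Subgroup G) ⊓ commutator G = V := by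
  haveI : Fact (Nat.Prime 2) := ⟨Nat.prime_two⟩
  refine le_antisymm ?_ (le_inf d.le d.le_commutator)
  rw [inf_comm, Subgroup.commutator_inf_eq_focalSubgroup P, Subgroup.focalSubgroup_def, Subgroup.closure_le]
  rintro z ⟨hz, a, ha, g, rfl⟩
  have hz' : a * (g * a⁻¹ * g⁻¹) ∈ (P : Subgroup G) := by
    rw [show a * (g * a⁻¹ * g⁻¹) = ⁅a, g⁆ by rw [commutatorElement_def]; group]
    exact hz
  have hb : g * a⁻¹ * g⁻¹ ∈ (P : Subgroup G) := by simpa using mul_mem (inv_mem ha) hz'
  have := d.fusion a⁻¹ (inv_mem ha) _ hb g rfl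
  rw [inv_inv] at this
  rw [SetLike.mem_coe, show ⁅a, g⁆ = a * (g * a⁻¹ * g⁻¹) by rw [commutatorElement_def]; group]
  exact this

theorem Data.comm (d : Data P V) {v w : G} (hv : v ∈ V) (hw : w ∈ V) : v * w = w * v := by
  have h1 := inv_eq_of_mul_eq_one_right (d.sq _ hv)
  have h2 := inv_eq_of_mul_eq_one_right (d.sq _ hw)
  have h3 := inv_eq_of_mul_eq_one_right (d.sq _ (mul_mem hv hw))
  rw [_root_.mul_inv_rev, h1, h2] at h3
  exact h3.symm

/-- A normal subgroup with no odd core contains `V` as soon as it has even order. -/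
theorem Data.le_of_normal (d : Data P V) (hO : pPrimeCore 2 G = ⊥) (N : Subgroup G) [N.Normal]
    (hN : N ≤ commutator G) (hne : N ≠ ⊥) : V ≤ N := by
  haveI : Fact (Nat.Prime 2) := ⟨Nat.prime_two⟩
  have heven : 2 ∣ Nat.card N := by
    by_contra h
    exact hne (le_bot_iff.mp (hO ▸ CfsgLib.le_pPrimeCore (p := 2) (Nat.prime_two.coprime_iff_not_dvd.mpr h).symm))
  obtain ⟨a, ha⟩ := exists_prime_orderOf_dvd_card' (G := N) 2 heven
  obtain ⟨Q, hQ⟩ := (IsPGroup.of_card (p := 2) (n := 1) (G := Subgroup.zpowers (a : G))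
    (by rw [Nat.card_zpowers, Subgroup.orderOf_coe, ha, pow_one])).exists_le_sylow
  obtain ⟨g, hg⟩ := MulAction.exists_smul_eq G Q P
  have hvP : g * (a : G) * g⁻¹ ∈ (P : Subgroup G) := by
    rw [← hg, Sylow.coe_subgroup_smul, Subgroup.mem_pointwise_smul_iff_inv_smul_mem]
    simpa [MulAut.conj_symm_apply, mul_assoc] using hQ (Subgroup.mem_zpowers (a : G))
  have hvN : g * (a : G) * g⁻¹ ∈ N := (inferInstance : N.Normal).conj_mem _ a.2 g
  have hvV : g * (a : G) * g⁻¹ ∈ V := d.inf_commutator.le ⟨hvP, hN hvN⟩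
  have hv1 : g * (a : G) * g⁻¹ ≠ 1 := fun e => by
    have e1 : (a : G) = 1 := conj_eq_one_iff.mp e
    rw [show a = 1 from Subtype.ext e1, orderOf_one] at ha
    omega
  intro w hw
  rcases eq_or_ne w 1 with rfl | hw1
  · exact one_mem N
  · obtain ⟨k, rfl⟩ := d.conj _ hvV w hw hv1 hw1
    exact (inferInstance : N.Normal).conj_mem _ hvN k

/-- In the solvable case `V` is normal. -/
theorem Data.normal_of_solvable (d : Data P V) (hO : pPrimeCore 2 G = ⊥) (hG : Group.IsSolvable G) :
    V.Normal := by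
  classical
  haveI : Fact (Nat.Prime 2) := ⟨Nat.prime_two⟩
  obtain ⟨n, hn⟩ := hG.solvable
  have hn' : derivedSeries G n = ⊥ := hn
  have hD : commutator G ≠ ⊥ := fun e => by
    have h1 := d.card
    rw [show V = ⊥ from le_bot_iff.mp (e ▸ d.le_commutator), Subgroup.card_bot] at h1
    omega
  have hex : ∃ k, derivedSeries G (k + 1) ≠ ⊥ ∧ derivedSeries G (k + 2) = ⊥ := by
    have hex' : ∃ k, derivedSeries G (k + 1) = ⊥ := ⟨n, le_bot_iff.mp (hn' ▸ derivedSeries_antitone G (Nat.le_succ n))⟩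
    have h0 := Nat.find_spec hex'
    rcases Nat.eq_zero_or_pos (Nat.find hex') with h | h
    · rw [h, zero_add, derivedSeries_one] at h0
      exact absurd h0 hD
    · refine ⟨Nat.find hex' - 1, Nat.find_min hex' (by omega), ?_⟩
      rw [show Nat.find hex' - 1 + 2 = Nat.find hex' + 1 by omega]
      exact h0
  obtain ⟨k, hk1, hk2⟩ := hex
  set A := derivedSeries G (k + 1) with hA
  haveI : A.Normal := derivedSeries_normal G (k + 1)
  have hAD : A ≤ commutator G := by rw [← derivedSeries_one]; exact derivedSeries_antitone G (by omega)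
  have hAab : ∀ a ∈ A, ∀ b ∈ A, a * b = b * a := fun a ha b hb => by
    have h1 : ⁅a, b⁆ ∈ derivedSeries G (k + 2) := by
      rw [derivedSeries_succ]; exact Subgroup.commutator_mem_commutator ha hb
    rw [hk2, Subgroup.mem_bot, commutatorElement_eq_one_iff_mul_comm] at h1
    exact h1
  have hVA := d.le_of_normal hO A hAD hk1
  refine ⟨fun v hv g => ?_⟩
  have hgA : g * v * g⁻¹ ∈ A := (inferInstance : A.Normal).conj_mem _ (hVA hv) g
  haveI : IsMulCommutative A := ⟨⟨fun a b => Subtype.ext (hAab a a.2 b b.2)⟩⟩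
  let S := CfsgLib.sylowInfNormal P A
  have h2 : (⟨g * v * g⁻¹, hgA⟩ : A) ∈ (S : Subgroup A) := by
    refine CfsgLib.TransferApps.mem_sylow_of_mem_normalizer S ?_ ⟨1, Subtype.ext ?_⟩
    · rw [Subgroup.mem_normalizer_iff]
      intro z
      have : (⟨g * v * g⁻¹, hgA⟩ : A) * z * (⟨g * v * g⁻¹, hgA⟩ : A)⁻¹ = z := by
        rw [mul_inv_eq_iff_eq_mul]; exact IsMulCommutative.is_comm.comm _ _
      rw [this]
    · show (g * v * g⁻¹) ^ (2 ^ 1) = 1
      rw [pow_one, conj_pow, pow_two, d.sq v hv, mul_one, mul_inv_cancel]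
  rw [CfsgLib.coe_sylowInfNormal, Subgroup.mem_subgroupOf] at h2
  exact d.inf_commutator.le ⟨h2, hAD hgA⟩

/-- An element acting without fixed points on `V`: every element of `V` is a commutator with it. -/
theorem exists_comm (_d : Data P V) [V.Normal] {l : G} (hl : ∀ v ∈ V, l * v * l⁻¹ = v → v = 1) {e : G} (he : e ∈ V) :
    ∃ v ∈ V, l * v * l⁻¹ * v⁻¹ = e := by
  let f : V → V := fun v => ⟨l * v * l⁻¹ * (v : G)⁻¹, mul_mem ((inferInstance : V.Normal).conj_mem _ v.2 l) (inv_mem v.2)⟩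
  have hf : Function.Injective f := by
    intro a b hab
    have h1 : l * (a : G) * l⁻¹ * (a : G)⁻¹ = l * b * l⁻¹ * (b : G)⁻¹ := congrArg Subtype.val hab
    have h2 : (l * (b : G) * l⁻¹)⁻¹ * (l * a * l⁻¹) = (b : G)⁻¹ * a := by
      rw [inv_mul_eq_iff_eq_mul, ← mul_assoc, ← h1, inv_mul_cancel_right]
    refine Subtype.ext (inv_mul_eq_one.mp (hl _ (mul_mem (inv_mem b.2) a.2) ?_)).symm
    refine Eq.trans ?_ h2
    group
  obtain ⟨v, hv⟩ := (Finite.injective_iff_surjective.mp hf) ⟨e, he⟩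
  exact ⟨v, v.2, congrArg Subtype.val hv⟩

theorem Data.solvable_case (d : Data P V) (hO : pPrimeCore 2 G = ⊥) [V.Normal] :
    Nonempty (G ⧸ Subgroup.center G ≃* alternatingGroup (Fin 4)) ∨
      Nonempty (G ⧸ Subgroup.center G ≃* Equiv.Perm (Fin 4)) := by
  classical
  haveI : Fact (Nat.Prime 2) := ⟨Nat.prime_two⟩
  haveI : Fact (Nat.Prime 3) := ⟨Nat.prime_three⟩
  set C := Subgroup.centralizer (V : Set G)
  have memC : ∀ {c : G}, c ∈ C ↔ ∀ v ∈ V, v * c = c * v := fun {c} => Subgroup.mem_centralizer_iff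
  haveI : C.Normal := inferInstance
  have hVC : V ≤ C := fun v hv => memC.mpr fun w hw => d.comm hw hv
  -- `C ⊓ D = V`
  have hCD : C ⊓ commutator G ≤ V := by
    set K := C ⊓ commutator G
    let S := CfsgLib.sylowInfNormal P K
    have hle : Subgroup.normalizer ((S : Subgroup K) : Set K) ≤ Subgroup.centralizer ((S : Subgroup K) : Set K) := by
      intro k _
      refine Subgroup.mem_centralizer_iff.mpr fun z hz => Subtype.ext ?_
      rw [SetLike.mem_coe, CfsgLib.coe_sylowInfNormal, Subgroup.mem_subgroupOf] at hz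
      exact memC.mp k.2.1 _ (d.inf_commutator.le ⟨hz, z.2.2⟩)
    have hc := MonoidHom.ker_transferSylow_isComplement' S hle
    set N := (MonoidHom.transferSylow S hle).ker
    have hN : (Nat.card N).Coprime 2 := by
      rw [← hc.index_eq_card]
      exact (Nat.prime_two.coprime_iff_not_dvd.mpr S.not_dvd_index).symm
    have hNb : N = ⊥ := by
      have h1 := (CfsgLib.map_pPrimeCore_le 2 K)
      rw [hO, le_bot_iff, Subgroup.map_eq_bot_iff_of_injective _ K.subtype_injective] at h1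
      exact le_bot_iff.mp (h1 ▸ CfsgLib.le_pPrimeCore (p := 2) hN)
    rw [hNb, Subgroup.isComplement'_bot_left] at hc
    intro z hz
    have : (⟨z, hz⟩ : K) ∈ (S : Subgroup K) := hc ▸ Subgroup.mem_top _
    rw [CfsgLib.coe_sylowInfNormal, Subgroup.mem_subgroupOf] at this
    exact d.inf_commutator.le ⟨this, hz.2⟩
  have hCG : ∀ c ∈ C, ∀ g : G, g * c * g⁻¹ * c⁻¹ ∈ V := fun c hc g =>
    hCD (Subgroup.mem_inf.mpr ⟨mul_mem ((inferInstance : C.Normal).conj_mem c hc g) (inv_mem hc), commutator_self_mem⟩)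
  -- three divides `|G : C|`
  obtain ⟨⟨v₀, hv₀⟩, hv₀1⟩ : ∃ v : V, v ≠ 1 := by
    haveI : Nontrivial V := Finite.one_lt_card_iff_nontrivial.mp (by rw [d.card]; norm_num)
    exact exists_ne 1
  have hv₀1' : v₀ ≠ 1 := fun e => hv₀1 (Subtype.ext e)
  have h3 : 3 ∣ C.index := by
    refine dvd_trans ?_ (Subgroup.index_dvd_of_le (show C ≤ Subgroup.centralizer ({v₀} : Set G) from fun c hc =>
      Subgroup.mem_centralizer_singleton_iff.mpr (memC.mp hc v₀ hv₀).symm))
    have h1 : Nat.card (MulAction.orbit (ConjAct G) v₀) = (Subgroup.centralizer ({v₀} : Set G)).index := by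
      rw [Nat.card_congr (MulAction.orbitEquivQuotientStabilizer (ConjAct G) v₀), ← Subgroup.index,
        ConjAct.stabilizer_eq_centralizer]
      rfl
    rw [← h1]
    have horb : MulAction.orbit (ConjAct G) v₀ = (V : Set G) \ {1} := by
      ext w
      rw [ConjAct.mem_orbit_conjAct, isConj_iff]
      constructor
      · rintro ⟨g, hg⟩
        have hw' : w = g⁻¹ * v₀ * g := by rw [← hg]; group
        refine ⟨hw' ▸ (by simpa using (inferInstance : V.Normal).conj_mem v₀ hv₀ g⁻¹), fun e => hv₀1' ?_⟩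
        rw [← hg, Set.mem_singleton_iff.mp e, mul_one, mul_inv_cancel]
      · rintro ⟨hw, hw1⟩
        obtain ⟨g, hg⟩ := d.conj w hw v₀ hv₀ (by simpa using hw1) hv₀1'
        exact ⟨g, hg⟩
    rw [horb, Nat.card_coe_set_eq, Set.ncard_sdiff_singleton_of_mem (one_mem V), ← Nat.card_coe_set_eq,
      show Nat.card ((V : Set G)) = 4 from d.card]
  obtain ⟨q, hq⟩ := exists_prime_orderOf_dvd_card' (G := G ⧸ C) 3 (by rwa [← Subgroup.index])
  obtain ⟨n, rfl⟩ := QuotientGroup.mk'_surjective C q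
  have hnC : n ∉ C := fun h => by
    rw [show (QuotientGroup.mk' C) n = 1 from (QuotientGroup.eq_one_iff n).mpr h, orderOf_one] at hq; omega
  have hn3 : n ^ 3 ∈ C := by
    have h := pow_orderOf_eq_one ((QuotientGroup.mk' C) n)
    rw [hq, ← map_pow] at h
    exact (QuotientGroup.eq_one_iff _).mp h
  -- elements outside `C` with cube inside act without fixed points
  have hfpf : ∀ l : G, l ∉ C → l ^ 3 ∈ C → ∀ v ∈ V, l * v * l⁻¹ = v → v = 1 := by
    intro l hl hl3 v hv hlv
    by_contra hv1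
    refine hl ?_
    have h2 : l ^ 2 ∈ C := memC.mpr fun w hw => by
      by_cases hw1 : w = 1
      · subst hw1; simp
      by_cases hwv : w = v
      · subst hwv
        rw [pow_two, ← mul_assoc, ← mul_inv_eq_iff_eq_mul.mp hlv, mul_assoc, ← mul_inv_eq_iff_eq_mul.mp hlv,
          ← mul_assoc]
      have hlw : l * w * l⁻¹ ∈ V := (inferInstance : V.Normal).conj_mem w hw l
      have hset : ∀ z ∈ V, z = 1 ∨ z = v ∨ z = w ∨ z = v * w := by
        intro z hz
        by_contra hz'
        push Not at hz'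
        haveI : IsKleinFour V := ⟨d.card, by
          refine (Nat.prime_two.eq_one_or_self_of_dvd _ (Monoid.exponent_dvd_of_forall_pow_eq_one fun a =>
            Subtype.ext (by rw [pow_two]; exact d.sq a a.2))).resolve_left fun h => hv₀1 ?_
          have h' := Monoid.pow_exponent_eq_one (⟨v₀, hv₀⟩ : V)
          rwa [h, pow_one] at h'⟩
        refine hz'.2.2.2 (congrArg Subtype.val (IsKleinFour.eq_mul_of_ne_all (x := (⟨v, hv⟩ : V)) (y := ⟨w, hw⟩)
          (z := ⟨z, hz⟩) (fun e => hv1 (congrArg Subtype.val e)) (fun e => hw1 (congrArg Subtype.val e))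
          (fun e => hwv (congrArg Subtype.val e).symm) (fun e => hz'.1 (congrArg Subtype.val e))
          (fun e => hz'.2.1 (congrArg Subtype.val e)) (fun e => hz'.2.2.1 (congrArg Subtype.val e))))
      have e2 : l ^ 2 * w * (l ^ 2)⁻¹ = w := by
        rw [pow_two, show l * l * w * (l * l)⁻¹ = l * (l * w * l⁻¹) * l⁻¹ by group]
        rcases hset _ hlw with e | e | e | e
        · exact absurd (conj_eq_one_iff.mp e) hw1
        · exact absurd (mul_left_cancel (mul_right_cancel (e.trans hlv.symm))) hwv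
        · rw [e, e]
        · rw [e, show l * (v * w) * l⁻¹ = l * v * l⁻¹ * (l * w * l⁻¹) by group, hlv, e, ← mul_assoc, d.sq v hv,
            one_mul]
      exact (mul_inv_eq_iff_eq_mul.mp e2).symm
    have := mul_mem hl3 (inv_mem h2)
    rwa [show l ^ 3 * (l ^ 2)⁻¹ = l by group] at this
  have hnfix := hfpf n hnC hn3
  have hKnormal : (C ⊔ Subgroup.zpowers n).Normal := by
    set K := C ⊔ Subgroup.zpowers n
    have h6 : C.index ≤ 6 := by
      obtain ⟨w, hw, hw1, hwv⟩ : ∃ w ∈ V, w ≠ 1 ∧ w ≠ v₀ := by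
        by_contra h
        push Not at h
        have := Set.ncard_le_ncard (show (V : Set G) ⊆ ({1, v₀} : Finset G) from fun z hz => by
          simp only [Finset.coe_insert, Finset.coe_singleton, Set.mem_insert_iff, Set.mem_singleton_iff]
          exact (em (z = 1)).imp_right (h z hz))
        rw [← Nat.card_coe_set_eq, show Nat.card ((V : Set G)) = 4 from d.card, Set.ncard_coe_finset] at this
        exact absurd (this.trans Finset.card_le_two) (by norm_num)
      let f : G ⧸ C → {p : {v : V // v ≠ 1} × {v : V // v ≠ 1} // p.1 ≠ p.2} :=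
        Quotient.lift (fun g : G => ⟨(⟨⟨g * v₀ * g⁻¹, (inferInstance : V.Normal).conj_mem _ hv₀ g⟩, fun e => hv₀1'
            (conj_eq_one_iff.mp (congrArg Subtype.val e))⟩,
          ⟨⟨g * w * g⁻¹, (inferInstance : V.Normal).conj_mem _ hw g⟩, fun e => hw1
            (conj_eq_one_iff.mp (congrArg Subtype.val e))⟩), fun e => hwv
              (mul_left_cancel (mul_right_cancel (congrArg (fun t => ((t : V) : G)) (congrArg Subtype.val e)))).symm⟩)
          fun a b hab => by
            have h1 : a⁻¹ * b ∈ C := QuotientGroup.leftRel_apply.mp hab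
            have hfix : ∀ z ∈ V, b * z * b⁻¹ = a * z * a⁻¹ := fun z hz => by
              calc b * z * b⁻¹ = a * ((a⁻¹ * b) * z) * b⁻¹ := by group
                _ = _ := by rw [← memC.mp h1 z hz]; group
            simp only [Subtype.mk.injEq, Prod.mk.injEq]
            exact ⟨(hfix v₀ hv₀).symm, (hfix w hw).symm⟩
      have hf : Function.Injective f := by
        intro x y
        refine Quotient.inductionOn₂ x y fun a b hab => Quotient.sound (QuotientGroup.leftRel_apply.mpr ?_)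
        simp only [f, Quotient.lift_mk, Subtype.mk.injEq, Prod.mk.injEq] at hab
        have hfix : ∀ z ∈ V, a * z * a⁻¹ = b * z * b⁻¹ → z * (a⁻¹ * b) = a⁻¹ * b * z := fun z _ e => by
          calc z * (a⁻¹ * b) = a⁻¹ * (a * z * a⁻¹) * b := by group
            _ = _ := by rw [e]; group
        refine memC.mpr fun z hz => ?_
        haveI : IsKleinFour V := ⟨d.card, by
          refine (Nat.prime_two.eq_one_or_self_of_dvd _ (Monoid.exponent_dvd_of_forall_pow_eq_one fun a =>
            Subtype.ext (by rw [pow_two]; exact d.sq a a.2))).resolve_left fun h => hv₀1 ?_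
          have h' := Monoid.pow_exponent_eq_one (⟨v₀, hv₀⟩ : V)
          rwa [h, pow_one] at h'⟩
        by_cases hz1 : z = 1
        · subst hz1; simp
        by_cases hzv : z = v₀
        · subst hzv; exact hfix z hz hab.1
        by_cases hzw : z = w
        · subst hzw; exact hfix z hz hab.2
        have e : z = v₀ * w := congrArg Subtype.val (IsKleinFour.eq_mul_of_ne_all (x := (⟨v₀, hv₀⟩ : V))
          (y := ⟨w, hw⟩) (z := ⟨z, hz⟩) hv₀1 (fun e => hw1 (congrArg Subtype.val e))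
          (fun e => hwv (congrArg Subtype.val e).symm) (fun e => hz1 (congrArg Subtype.val e))
          (fun e => hzv (congrArg Subtype.val e)) (fun e => hzw (congrArg Subtype.val e)))
        rw [e, mul_assoc, hfix w hw hab.2, ← mul_assoc, hfix v₀ hv₀ hab.1, mul_assoc]
      rw [Subgroup.index]
      refine (Nat.card_le_card_of_injective f hf).trans ?_
      haveI : Fintype V := Fintype.ofFinite _
      rw [Nat.card_eq_fintype_card, Fintype.card_subtype]
      have h3' : Fintype.card {v : V // v ≠ 1} = 3 := by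
        rw [Fintype.card_subtype_compl, Fintype.card_subtype_eq, ← Nat.card_eq_fintype_card, d.card]
      have : (Finset.univ.filter fun p : {v : V // v ≠ 1} × {v : V // v ≠ 1} => p.1 ≠ p.2) =
          (Finset.univ : Finset {v : V // v ≠ 1}).offDiag := by ext p; simp
      rw [this, Finset.offDiag_card, Finset.card_univ, h3']
    -- the index of `K` is at most two
    have hK2 : K.index ∣ 2 := by
      have hCK : C ≤ K := le_sup_left
      have h1 := Subgroup.relIndex_mul_index hCK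
      have h3' : 3 ∣ C.relIndex K := by
        have hmap : orderOf ((⟨n, Subgroup.mem_sup_right (Subgroup.mem_zpowers n)⟩ : K) : K ⧸ C.subgroupOf K) = 3 :=
          orderOf_eq_prime (by rw [← QuotientGroup.mk_pow, QuotientGroup.eq_one_iff]; exact hn3)
            (fun e => hnC (Subgroup.mem_subgroupOf.mp ((QuotientGroup.eq_one_iff (N := C.subgroupOf K) (⟨n, Subgroup.mem_sup_right (Subgroup.mem_zpowers n)⟩ : K)).mp e)))
        exact hmap ▸ orderOf_dvd_natCard _
      obtain ⟨r, hr⟩ := h3'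
      rw [hr] at h1
      obtain ⟨s, hs⟩ := h3
      have hs2 : s ≤ 2 := by omega
      have hs0 : 0 < s := Nat.pos_of_ne_zero fun e => by
        rw [e, mul_zero] at hs; exact Subgroup.index_ne_zero_of_finite hs
      have : r * K.index = s := by rw [hs] at h1; linarith
      have hd : K.index ∣ s := ⟨r, by linarith⟩
      interval_cases s
      · exact hd.trans (one_dvd 2)
      · exact hd
    rcases (Nat.dvd_prime Nat.prime_two).mp hK2 with h | h
    · rw [Subgroup.index_eq_one.mp h]; infer_instance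
    · exact Subgroup.normal_of_index_eq_two h
  -- the centre
  set Z := Subgroup.center G
  have hsplit : ∀ c ∈ C, ∃ v ∈ V, v⁻¹ * c ∈ C ∧ n * (v⁻¹ * c) * n⁻¹ = v⁻¹ * c := by
    intro c hc
    obtain ⟨v, hv, hve⟩ := exists_comm d hnfix (hCG c hc n)
    refine ⟨v, hv, mul_mem (inv_mem (hVC hv)) hc, ?_⟩
    have h1 : n * c * n⁻¹ = n * v * n⁻¹ * v⁻¹ * c := by rw [hve, inv_mul_cancel_right]
    calc n * (v⁻¹ * c) * n⁻¹ = (n * v * n⁻¹)⁻¹ * (n * c * n⁻¹) := by group
      _ = _ := by rw [h1]; group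
  have hcent : ∀ c ∈ C, n * c * n⁻¹ = c → c ∈ Z := by
    intro c hc hnc
    have hcC : ∀ c₂ ∈ C, c₂ * c = c * c₂ := by
      intro c₂ hc₂
      obtain ⟨v, hv, hv', hvn⟩ := hsplit c₂ hc₂
      have h1 := hnfix _ (hCG c hc (v⁻¹ * c₂)) (by
        calc n * (v⁻¹ * c₂ * c * (v⁻¹ * c₂)⁻¹ * c⁻¹) * n⁻¹
            = n * (v⁻¹ * c₂) * n⁻¹ * (n * c * n⁻¹) * (n * (v⁻¹ * c₂) * n⁻¹)⁻¹ * (n * c * n⁻¹)⁻¹ := by group
          _ = _ := by rw [hvn, hnc])
      rw [mul_inv_eq_one, mul_inv_eq_iff_eq_mul] at h1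
      calc c₂ * c = v * (v⁻¹ * c₂ * c) := by group
        _ = v * c * v⁻¹ * c₂ := by rw [h1]; group
        _ = c * c₂ := by rw [memC.mp hc v hv, mul_inv_cancel_right]
    -- all conjugates of `n` are in the subgroup generated by `C` and `n`
    let K := C ⊔ Subgroup.zpowers n
    have hCc : K ≤ Subgroup.centralizer ({c} : Set G) := sup_le
      (fun a ha => Subgroup.mem_centralizer_singleton_iff.mpr (hcC a ha))
      (Subgroup.zpowers_le.mpr (Subgroup.mem_centralizer_singleton_iff.mpr (mul_inv_eq_iff_eq_mul.mp hnc)))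
    have hK : K.Normal := hKnormal
    refine Subgroup.mem_center_iff.mpr fun g => ?_
    have he := hCG c hc g
    have hgn : g⁻¹ * n * g ∈ Subgroup.centralizer ({c} : Set G) := hCc (by
      simpa using hK.conj_mem n (Subgroup.mem_sup_right (Subgroup.mem_zpowers n)) g⁻¹)
    have h1 := hnfix _ he (by
      have h2 := Subgroup.mem_centralizer_singleton_iff.mp hgn
      calc n * (g * c * g⁻¹ * c⁻¹) * n⁻¹ = g * ((g⁻¹ * n * g) * c) * (g⁻¹ * n * g)⁻¹ * g⁻¹ * (n * c * n⁻¹)⁻¹ := by
            group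
        _ = _ := by rw [h2, hnc]; group)
    rwa [mul_inv_eq_one, mul_inv_eq_iff_eq_mul] at h1
  have hZC : Z ≤ C := Subgroup.center_le_centralizer _
  have hVZ : ∀ v ∈ V, v ∈ Z → v = 1 := fun v hv hz =>
    hnfix v hv (by rw [Subgroup.mem_center_iff.mp hz n, mul_inv_cancel_right])
  have hdec : ∀ c ∈ C, ∃ v ∈ V, v⁻¹ * c ∈ Z := fun c hc => by
    obtain ⟨v, hv, hv', hvn⟩ := hsplit c hc
    exact ⟨v, hv, hcent _ hv' hvn⟩
  have hn3Z : n ^ 3 ∈ Z := hcent _ hn3 (by group)
  -- the four-point set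
  let L : Subgroup G := Z ⊔ Subgroup.zpowers n
  have hLC : ∀ l ∈ L, l ∈ C → l ∈ Z := by
    intro l hl hlC
    obtain ⟨z, hz, y, hy, rfl⟩ := Subgroup.mem_sup_of_normal_left.mp hl
    obtain ⟨i, rfl⟩ := Subgroup.mem_zpowers_iff.mp hy
    refine hcent _ hlC ?_
    rw [show n * (z * n ^ i) * n⁻¹ = n * z * n⁻¹ * n ^ i by group,
      Subgroup.mem_center_iff.mp hz n, mul_inv_cancel_right]
  have hnL : n ∈ L := Subgroup.mem_sup_right (Subgroup.mem_zpowers n)
  let H : Subgroup G := Subgroup.normalizer (L : Set G)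
  have hVH : ∀ v ∈ V, v ∈ H → v = 1 := fun v hv hvH => by
    have h1 : v * n * v⁻¹ * n⁻¹ ∈ L :=
      mul_mem ((Subgroup.mem_normalizer_iff.mp hvH n).mp hnL) (inv_mem hnL)
    have h2 : v * n * v⁻¹ * n⁻¹ ∈ V := by
      rw [show v * n * v⁻¹ * n⁻¹ = v * (n * v⁻¹ * n⁻¹) by group]
      exact mul_mem hv ((inferInstance : V.Normal).conj_mem _ (inv_mem hv) n)
    have h3' := hVZ _ h2 (hLC _ h1 (hVC h2))
    rw [mul_inv_eq_one, mul_inv_eq_iff_eq_mul] at h3'
    exact hnfix v hv (by rw [← h3', mul_inv_cancel_right])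
  have hKd : ∀ x : G, x ∈ C ⊔ Subgroup.zpowers n → ∃ v ∈ V, v⁻¹ * x ∈ L := by
    intro x hx
    obtain ⟨c, hc, y, hy, rfl⟩ := Subgroup.mem_sup_of_normal_left.mp hx
    obtain ⟨v, hv, hvz⟩ := hdec c hc
    exact ⟨v, hv, by rw [← mul_assoc]; exact mul_mem (Subgroup.mem_sup_left hvz) (Subgroup.mem_sup_right hy)⟩
  have hmem : ∀ g : G, ∃ v ∈ V, v⁻¹ * g ∈ H := by
    intro g
    have hgn : g * n * g⁻¹ ∈ C ⊔ Subgroup.zpowers n :=
      hKnormal.conj_mem n (Subgroup.mem_sup_right (Subgroup.mem_zpowers n)) g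
    obtain ⟨v₁, hv₁, hl⟩ := hKd _ hgn
    set l := v₁⁻¹ * (g * n * g⁻¹)
    have hlnC : l ∉ C := fun h => hnC (by
      have h1 : g * n * g⁻¹ ∈ C := by simpa [l] using mul_mem (hVC hv₁) h
      simpa [mul_assoc] using (inferInstance : C.Normal).conj_mem _ h1 g⁻¹)
    have hl3 : l ^ 3 ∈ C := by
      have h1 : ((QuotientGroup.mk' C) l) = (QuotientGroup.mk' C) (g * n * g⁻¹) := by
        rw [map_mul _ v₁⁻¹, show (QuotientGroup.mk' C) v₁⁻¹ = 1 from (QuotientGroup.eq_one_iff _).mpr
          (inv_mem (hVC hv₁)), one_mul]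
      have h2 : (QuotientGroup.mk' C) (l ^ 3) = 1 := by
        rw [map_pow, h1, map_mul, map_mul, map_inv, conj_pow, ← map_pow,
          show (QuotientGroup.mk' C) (n ^ 3) = 1 from (QuotientGroup.eq_one_iff _).mpr hn3, mul_one, mul_inv_cancel]
      exact (QuotientGroup.eq_one_iff _).mp h2
    obtain ⟨v, hv, hve⟩ := exists_comm d (hfpf l hlnC hl3) (inv_mem hv₁)
    refine ⟨v, hv, ?_⟩
    have hconj : (v⁻¹ * g) * n * (v⁻¹ * g)⁻¹ = l := by
      have h1 : g * n * g⁻¹ = v₁ * l := by simp [l]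
      calc (v⁻¹ * g) * n * (v⁻¹ * g)⁻¹ = v⁻¹ * (g * n * g⁻¹) * v := by group
        _ = v⁻¹ * (v₁ * l) * v := by rw [h1]
        _ = l := by
          have h2 : v₁ = (l * v * l⁻¹ * v⁻¹)⁻¹ := by rw [hve, inv_inv]
          rw [h2]; group
    refine Subgroup.mem_normalizer_fintype fun x hx => ?_
    obtain ⟨z, hz, y, hy, rfl⟩ := Subgroup.mem_sup_of_normal_left.mp hx
    obtain ⟨i, rfl⟩ := Subgroup.mem_zpowers_iff.mp hy
    rw [show v⁻¹ * g * (z * n ^ i) * (v⁻¹ * g)⁻¹ =
      v⁻¹ * g * z * (v⁻¹ * g)⁻¹ * (v⁻¹ * g * n ^ i * (v⁻¹ * g)⁻¹) by group, ← conj_zpow, hconj,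
      Subgroup.mem_center_iff.mp hz (v⁻¹ * g), mul_inv_cancel_right]
    exact mul_mem (Subgroup.mem_sup_left hz) (zpow_mem hl i)
  -- the action on the four cosets of `H`
  have hcompl : Subgroup.IsComplement' V H := by
    refine Subgroup.isComplement'_of_disjoint_and_mul_eq_univ ?_ ?_
    · rw [disjoint_iff, eq_bot_iff]
      intro v hv
      exact hVH v hv.1 hv.2
    · refine Set.eq_univ_of_forall fun g => ?_
      obtain ⟨v, hv, hvH⟩ := hmem g
      exact ⟨v, hv, v⁻¹ * g, hvH, mul_inv_cancel_left v g⟩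
  have hH4 : Nat.card (G ⧸ H) = 4 := by
    rw [← Subgroup.index, hcompl.index_eq_card, d.card]
  let e4 : G ⧸ H ≃ Fin 4 := Finite.equivFinOfCardEq hH4
  let ψ : G →* Equiv.Perm (Fin 4) := e4.permCongrHom.toMonoidHom.comp (MulAction.toPermHom G (G ⧸ H))
  have hker : ψ.ker = Z := by
    have e : ψ.ker = (MulAction.toPermHom G (G ⧸ H)).ker := by
      ext z
      simp only [ψ, MonoidHom.mem_ker, MonoidHom.coe_comp, Function.comp_apply, MulEquiv.coe_toMonoidHom,
        MulEquiv.map_eq_one_iff]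
    rw [e, ← Subgroup.normalCore_eq_ker]
    refine le_antisymm (fun c hc => ?_) ?_
    · have hcH : c ∈ H := Subgroup.normalCore_le H hc
      have hcC : c ∈ C := memC.mpr fun v hv => by
        have h1 : v * c * v⁻¹ * c⁻¹ ∈ H := mul_mem
          (Subgroup.normalCore_le H ((inferInstance : H.normalCore.Normal).conj_mem c hc v)) (inv_mem hcH)
        have h2 : v * c * v⁻¹ * c⁻¹ ∈ V := by
          rw [show v * c * v⁻¹ * c⁻¹ = v * (c * v⁻¹ * c⁻¹) by group]
          exact mul_mem hv ((inferInstance : V.Normal).conj_mem _ (inv_mem hv) c)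
        have h3' := hVH _ h2 h1
        rwa [mul_inv_eq_one, mul_inv_eq_iff_eq_mul] at h3'
      obtain ⟨v, hv, hvz⟩ := hdec c hcC
      have hvH : v ∈ H := by
        have h1 := mul_mem hcH (inv_mem (show v⁻¹ * c ∈ H from Subgroup.center_le_normalizer _ hvz))
        rwa [_root_.mul_inv_rev, inv_inv, ← mul_assoc, mul_inv_cancel, one_mul] at h1
      rwa [hVH v hv hvH, inv_one, one_mul] at hvz
    · haveI : Z.Normal := inferInstance
      exact Subgroup.normal_le_normalCore.mpr (Subgroup.center_le_normalizer _)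
  let E : G ⧸ Z ≃* ψ.range := (QuotientGroup.quotientMulEquivOfEq hker.symm).trans (QuotientGroup.quotientKerEquivRange ψ)
  have h4 : 4 ∣ Nat.card ψ.range := by
    have hinj : Function.Injective (ψ.comp V.subtype) := (injective_iff_map_eq_one _).mpr fun v hv =>
      Subtype.ext (hVZ v v.2 (hker ▸ MonoidHom.mem_ker.mpr hv))
    have h1 : Nat.card (ψ.comp V.subtype).range = 4 := by
      rw [← Nat.card_congr (MonoidHom.ofInjective hinj).toEquiv, d.card]
    refine (dvd_of_eq h1.symm).trans ?_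
    exact Subgroup.card_dvd_of_le (fun _ ⟨v, hv⟩ => ⟨(v : G), hv⟩)
  have h3' : 3 ∣ Nat.card ψ.range := by
    have h1 : orderOf (ψ n) = 3 := orderOf_eq_prime
      (by rw [← map_pow]; exact MonoidHom.mem_ker.mp (hker.symm ▸ hn3Z))
      (fun e => hnC (hZC (hker ▸ MonoidHom.mem_ker.mpr e)))
    exact h1 ▸ Subgroup.orderOf_dvd_natCard ψ.range ⟨n, rfl⟩
  have h12 : 12 ∣ Nat.card ψ.range := Nat.Coprime.mul_dvd_of_dvd_of_dvd (by norm_num : Nat.Coprime 4 3) h4 h3'
  have h24 : Nat.card ψ.range * ψ.range.index = 24 := by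
    rw [Subgroup.card_mul_index, Nat.card_eq_fintype_card, Fintype.card_perm, Fintype.card_fin]
    rfl
  obtain ⟨t, ht⟩ := h12
  have hi : ψ.range.index = 1 ∨ ψ.range.index = 2 := by
    rw [ht, mul_assoc] at h24
    have h2 : ψ.range.index ∣ 2 := ⟨t, by linarith⟩
    exact (Nat.dvd_prime Nat.prime_two).mp h2
  rcases hi with h | h
  · exact Or.inr ⟨E.trans ((MulEquiv.subgroupCongr (Subgroup.index_eq_one.mp h)).trans Subgroup.topEquiv)⟩
  · exact Or.inl ⟨E.trans (MulEquiv.subgroupCongr (Equiv.Perm.eq_alternatingGroup_of_index_eq_two h))⟩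

end CfsgLib.TwoClassHalf
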